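import Mathlib

/-!
A cyclic group of order `(q³ - 1)(q + 1)` of pairs `(A, a)` in `GL₂(q) × GF(q³)ˣ` with `det A = N a`, and its
centraliser among such pairs.
-/

set_option autoImplicit false
set_option linter.unusedSectionVars false
set_option linter.style.haveILetI false

namespace CfsgLib.D4Torus

open Matrix

variable {k K : Type*} [Field k] [Fintype k] [Field K] [Fintype K]

theorem eq_of_col {A B A₀ : Matrix (Fin 2) (Fin 2) k} (h10 : A₀ 1 0 ≠ 0) (hA : A * A₀ = A₀ * A)
    (hB : B * A₀ = A₀ * B) (h0 : A 0 0 = B 0 0) (h1 : A 1 0 = B 1 0) : A = B := by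
  have a0 := congrFun (congrFun hA 0) 0
  have a1 := congrFun (congrFun hA 1) 0
  have b0 := congrFun (congrFun hB 0) 0
  have b1 := congrFun (congrFun hB 1) 0
  simp only [Matrix.mul_apply, Fin.sum_univ_two] at a0 a1 b0 b1
  have e0 : A 0 1 = B 0 1 := mul_right_cancel₀ h10 (by
    linear_combination a0 - b0 + (A₀ 0 0 - A₀ 0 0) * h0 + A₀ 0 1 * h1)
  have e1 : A 1 1 = B 1 1 := mul_right_cancel₀ h10 (by
    linear_combination a1 - b1 + A₀ 1 0 * h0 + (A₀ 1 1 - A₀ 0 0) * h1)
  ext i j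
  fin_cases i <;> fin_cases j <;> assumption

variable (k) in
/-- A generator of the non-split torus. -/
theorem exists_singer :
    ∃ A₀ : GL (Fin 2) k, orderOf A₀ = Fintype.card k ^ 2 - 1 ∧
      orderOf (Matrix.GeneralLinearGroup.det A₀) = Fintype.card k - 1 ∧
      ∀ c : k, (A₀.1 - c • (1 : Matrix (Fin 2) (Fin 2) k)).det ≠ 0 := by
  classical
  obtain ⟨p, hp⟩ := CharP.exists k
  haveI : Fact p.Prime := ⟨CharP.char_prime_of_ne_zero k (CharP.char_ne_zero_of_finite k p)⟩
  let L := FiniteField.Extension k p 2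
  let b : Module.Basis (Fin 2) k L := Module.finBasisOfFinrankEq k L (FiniteField.finrank_extension k p 2)
  obtain ⟨z, hz⟩ := IsCyclic.exists_ofOrder_eq_natCard (α := Lˣ)
  rw [Nat.card_units, FiniteField.natCard_extension, Nat.card_eq_fintype_card] at hz
  have hk1 : 1 < Fintype.card k := Fintype.one_lt_card
  let f : L →+* Matrix (Fin 2) (Fin 2) k := (Algebra.leftMulMatrix b).toRingHom
  have hf : Function.Injective f := Algebra.leftMulMatrix_injective b
  let A₀ : GL (Fin 2) k := Units.map f.toMonoidHom z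
  refine ⟨A₀, by rw [orderOf_injective _ (Units.map_injective hf), hz], ?_, ?_⟩
  · have hdet : Matrix.GeneralLinearGroup.det A₀ = Units.map (Algebra.norm k (S := L)) z := Units.ext (by
      rw [Matrix.GeneralLinearGroup.val_det_apply, Units.coe_map]
      exact (Algebra.norm_eq_matrix_det b (z : L)).symm)
    rw [hdet]
    have hs : Function.Surjective (Units.map (Algebra.norm k (S := L))) :=
      FiniteField.unitsMap_norm_surjective k L
    have hgen : ∀ x : Lˣ, x ∈ Subgroup.zpowers z := fun x => by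
      have : Subgroup.zpowers z = ⊤ := Subgroup.eq_top_of_card_eq _ (by
        rw [Nat.card_zpowers, hz, Nat.card_units, FiniteField.natCard_extension, Nat.card_eq_fintype_card])
      rw [this]; trivial
    have htop : ∀ x : kˣ, x ∈ Subgroup.zpowers (Units.map (Algebra.norm k (S := L)) z) := fun x => by
      obtain ⟨y, rfl⟩ := hs x
      obtain ⟨i, rfl⟩ := hgen y
      exact ⟨i, (map_zpow _ z i).symm⟩
    rw [← Nat.card_zpowers, (Subgroup.eq_top_iff' _).mpr htop, Subgroup.card_top, Nat.card_units,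
      Nat.card_eq_fintype_card]
  · intro c
    have e : A₀.1 - c • (1 : Matrix (Fin 2) (Fin 2) k) = f ((z : L) - algebraMap k L c) := by
      show Algebra.leftMulMatrix b (z : L) - _ = Algebra.leftMulMatrix b _
      rw [map_sub, AlgHom.commutes, Algebra.algebraMap_eq_smul_one]
    rw [e]
    have hne : (z : L) - algebraMap k L c ≠ 0 := by
      rw [sub_ne_zero]
      intro h
      have hc0 : c ≠ 0 := fun h0 => z.ne_zero (by rw [h, h0, map_zero])
      have h1 : z ^ (Fintype.card k - 1) = 1 := Units.ext (by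
        rw [Units.val_pow_eq_pow_val, Units.val_one, h, ← map_pow, FiniteField.pow_card_sub_one_eq_one c hc0,
          map_one])
      have h2 := Nat.le_of_dvd (by omega) (orderOf_dvd_of_pow_eq_one h1)
      rw [hz] at h2
      have h3 : Fintype.card k * 2 ≤ Fintype.card k ^ 2 := by
        rw [sq]; exact Nat.mul_le_mul_left _ hk1
      omega
    exact ((isUnit_iff_ne_zero.mpr hne).map f).map Matrix.detMonoidHom |>.ne_zero

variable (ι : k →+* K)

/-- The pairs with determinant equal to the norm. -/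
def Pairs : Subgroup (GL (Fin 2) k × Kˣ) :=
  ((Units.map ι.toMonoidHom).comp (Matrix.GeneralLinearGroup.det.comp (MonoidHom.fst _ _))).eqLocus
    ((powMonoidHom (Fintype.card k ^ 2 + Fintype.card k + 1)).comp (MonoidHom.snd _ _))

theorem mem_pairs {x : GL (Fin 2) k × Kˣ} :
    x ∈ Pairs ι ↔ ι (x.1 : Matrix (Fin 2) (Fin 2) k).det =
      (x.2 : K) ^ (Fintype.card k ^ 2 + Fintype.card k + 1) := by
  refine Units.ext_iff.trans ?_
  simp [powMonoidHom]

theorem cube_sub_one (q : ℕ) (h : 1 ≤ q) : q ^ 3 - 1 = (q - 1) * (q ^ 2 + q + 1) := by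
  have : 1 ≤ q ^ 3 := Nat.one_le_pow _ _ h
  zify [h, this]; ring

/-- The cyclic torus of pairs, with its centraliser. -/
theorem exists_pair (hK : Fintype.card K = Fintype.card k ^ 3) :
    ∃ γ ∈ Pairs ι, orderOf γ = (Fintype.card k ^ 3 - 1) * (Fintype.card k + 1) ∧
      (∀ c : k, (γ.1.1 - c • (1 : Matrix (Fin 2) (Fin 2) k)).det ≠ 0) ∧
      ∀ x ∈ Pairs ι, x.1 * γ.1 = γ.1 * x.1 → x ∈ Subgroup.zpowers γ := by
  classical
  set q := Fintype.card k with hq
  have hk1 : 1 < q := Fintype.one_lt_card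
  set S := q ^ 2 + q + 1 with hS
  have h3 : q ^ 3 - 1 = (q - 1) * S := cube_sub_one q hk1.le
  obtain ⟨A₀, hA, hdet, heig⟩ := exists_singer k
  obtain ⟨w, hw⟩ := IsCyclic.exists_ofOrder_eq_natCard (α := Kˣ)
  rw [Nat.card_units, Nat.card_eq_fintype_card, hK] at hw
  haveI : NeZero (q ^ 3 - 1) := ⟨by
    rw [h3]; exact (Nat.mul_pos (by omega) (by positivity)).ne'⟩
  have hgen : ∀ x : Kˣ, x ∈ Subgroup.zpowers w := fun x => by
    have : Subgroup.zpowers w = ⊤ := Subgroup.eq_top_of_card_eq _ (by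
      rw [Nat.card_zpowers, hw, Nat.card_units, Nat.card_eq_fintype_card, hK])
    rw [this]; trivial
  set g : Kˣ := Units.map ι.toMonoidHom (Matrix.GeneralLinearGroup.det A₀) with hg
  have hgo : orderOf g = q - 1 := by rw [hg, orderOf_injective _ (Units.map_injective ι.injective), hdet]
  obtain ⟨i, hi⟩ := (mem_powers_iff_mem_zpowers).mpr (hgen g)
  simp only at hi
  have hSi : S ∣ i := by
    have h1 : w ^ (i * (q - 1)) = 1 := by rw [pow_mul, hi, ← hgo, pow_orderOf_eq_one]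
    have h2 := orderOf_dvd_of_pow_eq_one h1
    rw [hw, h3, mul_comm (q - 1)] at h2
    exact Nat.dvd_of_mul_dvd_mul_right (by omega) h2
  obtain ⟨j, rfl⟩ := hSi
  have hwS : orderOf (w ^ S) = q - 1 := by
    rw [orderOf_pow' _ (by omega), hw, h3, Nat.gcd_mul_left_left, Nat.mul_div_cancel _ (by omega)]
  have hj : j.Coprime (q - 1) := by
    have h1 : orderOf ((w ^ S) ^ j) = q - 1 := by rw [← pow_mul, hi, hgo]
    rw [orderOf_pow, hwS] at h1
    have h4 : (q - 1).gcd j ∣ q - 1 := Nat.gcd_dvd_left _ _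
    have h5 := Nat.div_mul_cancel h4
    rw [h1] at h5
    rw [Nat.coprime_comm, Nat.coprime_iff_gcd_eq_one]
    exact Nat.eq_of_mul_eq_mul_left (show 0 < q - 1 by omega) (by omega)
  obtain ⟨u, hu⟩ := ZMod.unitsMap_surjective (show q - 1 ∣ q ^ 3 - 1 from h3 ▸ dvd_mul_right _ _)
    (ZMod.unitOfCoprime j hj)
  set j' := (u : ZMod (q ^ 3 - 1)).val with hj'
  have hj'c : j'.Coprime (q ^ 3 - 1) := ZMod.val_coe_unit_coprime u
  have hmod : j' ≡ j [MOD q - 1] := by
    rw [← ZMod.natCast_eq_natCast_iff]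
    have h1 := congrArg Units.val hu
    rw [ZMod.unitsMap_val, ZMod.coe_unitOfCoprime] at h1
    rw [hj', ZMod.natCast_val]
    exact h1
  set a₀ := w ^ j' with ha₀
  have ha : orderOf a₀ = q ^ 3 - 1 := by
    rw [ha₀, (show (orderOf w).Coprime j' by rw [hw]; exact hj'c.symm).orderOf_pow, hw]
  have haS : a₀ ^ S = g := by
    rw [ha₀, ← pow_mul, mul_comm, pow_mul, ← hi, pow_mul, pow_eq_pow_iff_modEq, hwS]
    exact hmod
  refine ⟨(A₀, a₀), ?_, ?_, heig, ?_⟩
  · show g = a₀ ^ S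
    exact haS.symm
  · show orderOf (A₀, a₀) = (q ^ 3 - 1) * (q + 1)
    rw [Prod.orderOf, hA, ha, ← hq, Nat.lcm, Nat.pow_sub_one_gcd_pow_sub_one, show Nat.gcd 2 3 = 1 from rfl, pow_one]
    refine Nat.div_eq_of_eq_mul_left (show 0 < q - 1 by omega) ?_
    have h1 : 1 ≤ q ^ 2 := Nat.one_le_pow _ _ hk1.le
    have h2 : 1 ≤ q ^ 3 := Nat.one_le_pow _ _ hk1.le
    zify [h1, h2, hk1.le]; ring
  rintro ⟨A, a⟩ hx hcomm
  have h10 : A₀.1 1 0 ≠ 0 := by
    intro h
    refine heig (A₀.1 0 0) ?_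
    rw [Matrix.det_fin_two]
    simp [h]
  have hAz : A ∈ Subgroup.zpowers A₀ := by
    have hle : Subgroup.zpowers A₀ ≤ Subgroup.centralizer {A₀} := by
      rw [Subgroup.zpowers_le, Subgroup.mem_centralizer_singleton_iff]
    have hcol : ∀ B : Subgroup.centralizer ({A₀} : Set (GL (Fin 2) k)),
        ((B.1.1 0 0, B.1.1 1 0) : k × k) ≠ 0 := by
      intro B h
      have h1 := (Matrix.isUnit_iff_isUnit_det B.1.1).mp B.1.isUnit
      obtain ⟨e0, e1⟩ : B.1.1 0 0 = 0 ∧ B.1.1 1 0 = 0 := Prod.mk_eq_zero.mp h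
      rw [Matrix.det_fin_two, e0, e1] at h1
      simp at h1
    let col : Subgroup.centralizer ({A₀} : Set (GL (Fin 2) k)) → {v : k × k // v ≠ 0} :=
      fun B => ⟨_, hcol B⟩
    have hinj : Function.Injective col := fun B C e => by
      have e' := Prod.ext_iff.mp (congrArg Subtype.val e)
      exact Subtype.ext (Units.ext (eq_of_col h10
        (congrArg Units.val (Subgroup.mem_centralizer_singleton_iff.mp B.2))
        (congrArg Units.val (Subgroup.mem_centralizer_singleton_iff.mp C.2)) e'.1 e'.2))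
    have hcard := Nat.card_le_card_of_injective col hinj
    have htarget : Nat.card {v : k × k // v ≠ 0} = q ^ 2 - 1 := by
      rw [Nat.card_eq_fintype_card, Fintype.card_subtype_compl, Fintype.card_subtype_eq, Fintype.card_prod, ← sq]
    rw [htarget, ← hA, ← Nat.card_zpowers] at hcard
    rw [Subgroup.eq_of_le_of_card_ge hle hcard, Subgroup.mem_centralizer_singleton_iff]
    exact hcomm
  obtain ⟨i, rfl⟩ := hAz
  suffices h : ((A₀, a₀) ^ i)⁻¹ * (A₀ ^ i, a) ∈ Subgroup.zpowers (A₀, a₀) by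
    exact (Subgroup.mul_mem_cancel_left _ (inv_mem (Subgroup.zpow_mem_zpowers _ i))).mp h
  have hM : ((A₀, a₀) ^ i)⁻¹ * (A₀ ^ i, a) ∈ Pairs ι :=
    mul_mem (inv_mem (zpow_mem (show (A₀, a₀) ∈ Pairs ι from haS.symm) i)) hx
  rw [Prod.pow_mk, Prod.inv_mk, Prod.mk_mul_mk, inv_mul_cancel] at hM ⊢
  set b := (a₀ ^ i)⁻¹ * a with hb
  have hbS : b ^ S = 1 := by
    have h1 : Units.map ι.toMonoidHom (Matrix.GeneralLinearGroup.det (1 : GL (Fin 2) k)) = b ^ S := hM
    rw [map_one, map_one] at h1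
    exact h1.symm
  have htop : Subgroup.zpowers a₀ = ⊤ := Subgroup.eq_top_of_card_eq _ (by
    rw [Nat.card_zpowers, ha, Nat.card_units, Nat.card_eq_fintype_card, hK])
  obtain ⟨m, hm⟩ := (mem_powers_iff_mem_zpowers (x := a₀) (y := b)).mpr (by rw [htop]; trivial)
  simp only at hm
  have hm1 : q - 1 ∣ m := by
    rw [← hm, ← pow_mul] at hbS
    have h1 := orderOf_dvd_of_pow_eq_one hbS
    rw [ha, h3] at h1
    exact Nat.dvd_of_mul_dvd_mul_right (by positivity) h1
  obtain ⟨n, hn1, hn2⟩ := Nat.chineseRemainder' (n := q ^ 2 - 1) (m := q ^ 3 - 1) (a := 0) (b := m) (by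
    rw [Nat.pow_sub_one_gcd_pow_sub_one, show Nat.gcd 2 3 = 1 from rfl, pow_one]
    exact (Nat.modEq_zero_iff_dvd.mpr hm1).symm)
  refine ⟨(n : ℤ), ?_⟩
  show (A₀, a₀) ^ (n : ℤ) = (1, b)
  rw [zpow_natCast, Prod.pow_mk]
  refine Prod.ext ?_ ?_
  · show A₀ ^ n = 1
    rw [← orderOf_dvd_iff_pow_eq_one, hA]
    exact Nat.modEq_zero_iff_dvd.mp hn1
  · show a₀ ^ n = b
    rw [← hm, pow_eq_pow_iff_modEq, ha]
    exact hn2

end CfsgLib.D4Torus
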