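import Cfsg.Agent.Lib.Chev.Twist.OrderD4
import Cfsg.Agent.Lib.Chev.Twist.AutD4
import Cfsg.Agent.Lib.D4Torus.Pairs
import Cfsg.Agent.Lib.Chev.RootCentralizer

/-!
The Levi subgroup of the long root node in `³D₄(q)`, as the image of pairs `(A, a)` with `det A = N a`.
-/

set_option autoImplicit false
set_option linter.unusedSectionVars false
set_option linter.dupNamespace false
set_option maxRecDepth 100000

namespace CfsgLib.D4Torus

open Cfsg.Lie CfsgLib.Chev CfsgLib.Chev.Chev Matrix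
open CfsgLib.Chev.T3D4 (ix ox tw R0 R0_pow one_gen stable_iff forall_ix vec4 orb0 gen A_val)

noncomputable section

local notation "Φ₄" => CfsgLib.Chev.chevD4

/-- A root of `D₄` given by its index. -/
abbrev rt (n : ℕ) (h : n < Cfsg.Lie.chevD4.nroots := by decide) : Fin Cfsg.Lie.chevD4.nroots := ⟨n, h⟩

theorem p1_eq : (Φ₄).p (ix 1) = rt 14 := Fin.ext (by rw [(Φ₄).p_val]; decide +kernel)
theorem p1_rev : ((Φ₄).p (ix 1)).rev = rt 9 := by rw [p1_eq]; rfl
theorem N_eval (r s : Fin Cfsg.Lie.chevD4.nroots) : (Φ₄).N r s = packD4.N r.val s.val := rfl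
theorem S_eval (r s : Fin Cfsg.Lie.chevD4.nroots) : ((Φ₄).S r s).val = packD4.S r.val s.val % 24 := rfl

variable {K : Type*} [Field K]

/-- The basis vector of a root. -/
def e (s : Fin Cfsg.Lie.chevD4.nroots) : Cfsg.Lie.chevD4.Idx → K := Pi.single (Sum.inr s) 1

theorem e_ne (s : Fin Cfsg.Lie.chevD4.nroots) : (e s : Cfsg.Lie.chevD4.Idx → K) ≠ 0 := fun h => by
  simpa [e] using congrFun h (Sum.inr s)

theorem e_self (s : Fin Cfsg.Lie.chevD4.nroots) : (e s : Cfsg.Lie.chevD4.Idx → K) (Sum.inr s) = 1 := by simp [e]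

theorem e_other {s u : Fin Cfsg.Lie.chevD4.nroots} (h : u ≠ s) :
    (e s : Cfsg.Lie.chevD4.Idx → K) (Sum.inr u) = 0 := by simp [e, h]

theorem xg_vec (r s : Fin Cfsg.Lie.chevD4.nroots) (hs : s ≠ r.rev) (hN : (Φ₄).N r s = 0) (t : K) :
    ((Φ₄).toAlg.xg r t : Matrix _ _ K) *ᵥ e s = e s := by
  have hk : ∀ k, k ≠ 0 → (Φ₄).toSys.E K k r *ᵥ e s = 0 := by
    intro k hk
    by_cases hr : s = r
    · subst hr; exact (Φ₄).toSys.E_col_self K hk s
    · rw [e, (Φ₄).toSys.E_col K k hr hs,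
        (Φ₄).toSys.ch_snd_eq_zero_of_le (k := 1) (Nat.pos_of_ne_zero hk) (by rw [(Φ₄).toSys.ch_one_snd, hN])]
      simp
  rw [Alg.xg_val, Sys.X, Finset.sum_range_succ, Finset.sum_range_succ, Finset.sum_range_succ, Finset.sum_range_one,
    Matrix.add_mulVec, Matrix.add_mulVec, Matrix.add_mulVec, Matrix.smul_mulVec, Matrix.smul_mulVec,
    Matrix.smul_mulVec, Matrix.smul_mulVec, hk 1 one_ne_zero, hk 2 two_ne_zero, hk 3 three_ne_zero,
    (Φ₄).toSys.E_zero, Matrix.one_mulVec]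
  simp

theorem xg_vec' (r s u : Fin Cfsg.Lie.chevD4.nroots) (hr : s ≠ r) (hs : s ≠ r.rev) (hu : (Φ₄).S r s = u)
    (hN : (Φ₄).N r u = 0) (t : K) :
    ((Φ₄).toAlg.xg r t : Matrix _ _ K) *ᵥ e s = e s + (t * ((Φ₄).N r s : K)) • e u := by
  have h2 : ((Φ₄).toTables.ch r s 2).2 = 0 := by
    simp [Tables.ch, hu, hN]
  have h3 := (Φ₄).toSys.ch_snd_succ_eq_zero h2
  rw [Alg.xg_val, Sys.X, Finset.sum_range_succ, Finset.sum_range_succ, Finset.sum_range_succ, Finset.sum_range_one,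
    Matrix.add_mulVec, Matrix.add_mulVec, Matrix.add_mulVec, Matrix.smul_mulVec, Matrix.smul_mulVec,
    Matrix.smul_mulVec, Matrix.smul_mulVec, (Φ₄).toSys.E_zero, Matrix.one_mulVec, e, e,
    (Φ₄).toSys.E_col K 1 hr hs, (Φ₄).toSys.E_col K 2 hr hs, (Φ₄).toSys.E_col K 3 hr hs,
    (Φ₄).toSys.ch_one_snd, (Φ₄).toSys.ch_one_fst, hu, h2, h3]
  simp [smul_smul]

theorem chi_tor (d : Fin Cfsg.Lie.chevD4.rank → Kˣ) (s : Fin Cfsg.Lie.chevD4.nroots) :
    (Φ₄).toSys.chi ((Φ₄).coHom K d) s =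
      d (ix 0) ^ Cfsg.Lie.chevD4.cartan 0 s.val * d (ix 1) ^ Cfsg.Lie.chevD4.cartan 1 s.val * d (ix 2) ^ Cfsg.Lie.chevD4.cartan 2 s.val *
        d (ix 3) ^ Cfsg.Lie.chevD4.cartan 3 s.val := by
  rw [(Φ₄).chi_coHom]
  simp only [← (Φ₄).cartan_val]
  exact (Fin.prod_univ_four (fun k : Fin 4 => d k ^ Cfsg.Lie.chevD4.cartan k.val s.val))

theorem tor_vec (d : Fin Cfsg.Lie.chevD4.rank → Kˣ) (s : Fin Cfsg.Lie.chevD4.nroots) :
    (Tw.tor (Φ := Φ₄) d : Matrix _ _ K) *ᵥ e s = ((Φ₄).toSys.chi ((Φ₄).coHom K d) s : K) • e s := by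
  ext x
  rw [Tw.tor, MonoidHom.comp_apply, Alg.torus_val, Sys.torusMat, Matrix.mulVec_diagonal]
  by_cases h : x = Sum.inr s
  · subst h; simp [Sys.chiIdx, e]
  · simp [e, h]

theorem tor_xg (d : Fin Cfsg.Lie.chevD4.rank → Kˣ) (s : Fin Cfsg.Lie.chevD4.nroots) (t : K) :
    Tw.tor (Φ := Φ₄) d * (Φ₄).toAlg.xg s t =
      (Φ₄).toAlg.xg s (((Φ₄).toSys.chi ((Φ₄).coHom K d) s : K) * t) * Tw.tor (Φ := Φ₄) d :=
  (Φ₄).toAlg.torus_xg _ _ _

variable (K) in
/-- The homomorphism from `SL₂` of the long root node. -/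
def phi : SpecialLinearGroup (Fin 2) K →* GL Cfsg.Lie.chevD4.Idx K := ((Φ₄).rankOne K (rt 14)).hom

theorem phi_u (t : K) : phi K (RankOne.u t) = (Φ₄).toAlg.xg (rt 14) t := RankOne.hom_u _ t

theorem phi_l (t : K) : phi K (RankOne.l t) = (Φ₄).toAlg.xg (rt 9) t := RankOne.hom_l _ t

/-- Induction on the elementary matrices. -/
theorem sl_induction {k : Type*} [Field k] (M : Subgroup (SpecialLinearGroup (Fin 2) k))
    (hu : ∀ t, RankOne.u t ∈ M) (hl : ∀ t, RankOne.l t ∈ M) : M = ⊤ := by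
  rw [eq_top_iff, ← RankOne.closure_u_w, Subgroup.closure_le]
  rintro g (⟨t, rfl⟩ | rfl)
  · exact hu t
  · rw [show (RankOne.w : SpecialLinearGroup (Fin 2) k) = RankOne.u 1 * RankOne.l (-1) * RankOne.u 1 from
      Subtype.ext (by
        simp only [RankOne.val_mul]
        ext i j; fin_cases i <;> fin_cases j <;>
          simp [RankOne.u, RankOne.l, RankOne.w, Matrix.mul_apply, Fin.sum_univ_two])]
    exact mul_mem (mul_mem (hu 1) (hl (-1))) (hu 1)

/-- A vector in the plane of two roots. -/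
def pl (s₁ s₂ : Fin Cfsg.Lie.chevD4.nroots) (v : Fin 2 → K) : Cfsg.Lie.chevD4.Idx → K := v 0 • e s₁ + v 1 • e s₂

theorem pl_injective {s₁ s₂ : Fin Cfsg.Lie.chevD4.nroots} (h : s₁ ≠ s₂) :
    Function.Injective (pl (K := K) s₁ s₂) := by
  intro v w hvw
  have h1 := congrFun hvw (Sum.inr s₁)
  have h2 := congrFun hvw (Sum.inr s₂)
  simp [pl, e, h, h.symm] at h1 h2
  ext i; fin_cases i <;> assumption

/-- The matrix with both off-diagonal entries negated. -/
def flipOff (ε : K) (A : Matrix (Fin 2) (Fin 2) K) : Matrix (Fin 2) (Fin 2) K :=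
  !![A 0 0, ε * A 0 1; ε * A 1 0, A 1 1]

theorem flipOff_mul {ε : K} (hε : ε * ε = 1) (A B : Matrix (Fin 2) (Fin 2) K) :
    flipOff ε (A * B) = flipOff ε A * flipOff ε B := by
  ext i j
  fin_cases i <;> fin_cases j <;>
    simp [flipOff, Matrix.mul_apply, Fin.sum_univ_two] <;>
    first
      | ring1
      | linear_combination (-(A 0 1 * B 1 0)) * hε
      | linear_combination (-(A 1 0 * B 0 1)) * hε

theorem phi_plane {s₁ s₂ : Fin Cfsg.Lie.chevD4.nroots} {ε : ℤ} (hε : ε = 1 ∨ ε = -1)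
    (hu1 : ∀ t : K, ((Φ₄).toAlg.xg (rt 14) t : Matrix _ _ K) *ᵥ e s₁ = e s₁)
    (hu2 : ∀ t : K, ((Φ₄).toAlg.xg (rt 14) t : Matrix _ _ K) *ᵥ e s₂ = e s₂ + (t * (ε : K)) • e s₁)
    (hl1 : ∀ t : K, ((Φ₄).toAlg.xg (rt 9) t : Matrix _ _ K) *ᵥ e s₁ = e s₁ + (t * (ε : K)) • e s₂)
    (hl2 : ∀ t : K, ((Φ₄).toAlg.xg (rt 9) t : Matrix _ _ K) *ᵥ e s₂ = e s₂)
    (h : SpecialLinearGroup (Fin 2) K) (v : Fin 2 → K) :
    (phi K h : Matrix _ _ K) *ᵥ pl s₁ s₂ v = pl s₁ s₂ (flipOff (ε : K) h.1 *ᵥ v) := by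
  have hee : (ε : K) * ε = 1 := by rcases hε with h | h <;> simp [h]
  let P : SpecialLinearGroup (Fin 2) K → Prop := fun g =>
    ∀ v : Fin 2 → K, (phi K g : Matrix _ _ K) *ᵥ pl s₁ s₂ v = pl s₁ s₂ (flipOff (ε : K) g.1 *ᵥ v)
  have hmul : ∀ {a b}, P a → P b → P (a * b) := fun {a b} ha hb v => by
    rw [map_mul, Units.val_mul, ← Matrix.mulVec_mulVec, hb, ha, Matrix.mulVec_mulVec, RankOne.val_mul,
      flipOff_mul hee]
  have hu : ∀ t, P (RankOne.u t) := fun t v => by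
    rw [phi_u, pl, Matrix.mulVec_add, Matrix.mulVec_smul, Matrix.mulVec_smul, hu1, hu2, pl]
    simp [flipOff, RankOne.u, Matrix.mulVec, dotProduct, Fin.sum_univ_two]
    module
  have hl : ∀ t, P (RankOne.l t) := fun t v => by
    rw [phi_l, pl, Matrix.mulVec_add, Matrix.mulVec_smul, Matrix.mulVec_smul, hl1, hl2, pl]
    simp [flipOff, RankOne.l, Matrix.mulVec, dotProduct, Fin.sum_univ_two]
    module
  have hw : P RankOne.w := by
    rw [show (RankOne.w : SpecialLinearGroup (Fin 2) K) = RankOne.u 1 * RankOne.l (-1) * RankOne.u 1 from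
      Subtype.ext (by
        simp only [RankOne.val_mul]
        ext i j; fin_cases i <;> fin_cases j <;>
          simp [RankOne.u, RankOne.l, RankOne.w, Matrix.mul_apply, Fin.sum_univ_two])]
    exact hmul (hmul (hu 1) (hl (-1))) (hu 1)
  have hone : P 1 := fun v => by
    rw [map_one, Units.val_one, Matrix.one_mulVec,
      show flipOff (ε : K) (1 : SpecialLinearGroup (Fin 2) K).1 = 1 by
        ext i j; fin_cases i <;> fin_cases j <;> simp [flipOff], Matrix.one_mulVec]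
  have hall : ∀ g, P g := by
    intro g
    have hg : g ∈ Subgroup.closure (Set.range RankOne.u ∪ {RankOne.w}) := by rw [RankOne.closure_u_w]; trivial
    induction hg using Subgroup.closure_induction with
    | mem x hx => rcases hx with ⟨t, rfl⟩ | rfl
                  · exact hu t
                  · exact hw
    | one => exact hone
    | mul a b _ _ ha hb => exact hmul ha hb
    | inv a _ ha =>
      intro v
      have h1 := ha (flipOff (ε : K) (a⁻¹).1 *ᵥ v)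
      rw [Matrix.mulVec_mulVec, ← flipOff_mul hee, ← RankOne.val_mul, mul_inv_cancel] at h1
      have h2 : pl s₁ s₂ (flipOff (ε : K) (1 : SpecialLinearGroup (Fin 2) K).1 *ᵥ v) = pl s₁ s₂ v := by
        rw [show flipOff (ε : K) (1 : SpecialLinearGroup (Fin 2) K).1 = 1 by
          ext i j; fin_cases i <;> fin_cases j <;> simp [flipOff], Matrix.one_mulVec]
      rw [h2] at h1
      rw [← h1, Matrix.mulVec_mulVec, ← Units.val_mul, ← map_mul, inv_mul_cancel, map_one, Units.val_one,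
        Matrix.one_mulVec]
  exact hall h v

theorem phi_pos (h : SpecialLinearGroup (Fin 2) K) (v : Fin 2 → K) :
    (phi K h : Matrix _ _ K) *ᵥ pl (rt 19) (rt 18) v = pl (rt 19) (rt 18) (h.1 *ᵥ v) := by
  have e1 : flipOff ((1 : ℤ) : K) h.1 = h.1 := by
    ext i j; fin_cases i <;> fin_cases j <;> simp [flipOff]
  conv_rhs => rw [← e1]
  refine phi_plane (ε := 1) (Or.inl rfl) (fun t => xg_vec _ _ (by decide) (by rw [N_eval]; decide +kernel) t)
    (fun t => ?_) (fun t => ?_) (fun t => xg_vec _ _ (by decide) (by rw [N_eval]; decide +kernel) t) h v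
  · rw [xg_vec' _ _ (rt 19) (by decide) (by decide) (Fin.ext (by rw [S_eval]; decide +kernel))
      (by rw [N_eval]; decide +kernel) t, N_eval]
    congr 3
  · rw [xg_vec' _ _ (rt 18) (by decide) (by decide) (Fin.ext (by rw [S_eval]; decide +kernel))
      (by rw [N_eval]; decide +kernel) t, N_eval]
    congr 3

theorem phi_neg (h : SpecialLinearGroup (Fin 2) K) (v : Fin 2 → K) :
    (phi K h : Matrix _ _ K) *ᵥ pl (rt 5) (rt 4) v = pl (rt 5) (rt 4) (flipOff (-1) h.1 *ᵥ v) := by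
  have e1 : ((-1 : ℤ) : K) = -1 := by norm_num
  rw [← e1]
  refine phi_plane (ε := -1) (Or.inr rfl) (fun t => xg_vec _ _ (by decide) (by rw [N_eval]; decide +kernel) t)
    (fun t => ?_) (fun t => ?_) (fun t => xg_vec _ _ (by decide) (by rw [N_eval]; decide +kernel) t) h v
  · rw [xg_vec' _ _ (rt 5) (by decide) (by decide) (Fin.ext (by rw [S_eval]; decide +kernel))
      (by rw [N_eval]; decide +kernel) t, N_eval]
    congr 3
  · rw [xg_vec' _ _ (rt 4) (by decide) (by decide) (Fin.ext (by rw [S_eval]; decide +kernel))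
      (by rw [N_eval]; decide +kernel) t, N_eval]
    congr 3

theorem phi_fix17 (h : SpecialLinearGroup (Fin 2) K) : (phi K h : Matrix _ _ K) *ᵥ e (rt 17) = e (rt 17) := by
  let P : Subgroup (SpecialLinearGroup (Fin 2) K) :=
    { carrier := {g | (phi K g : Matrix _ _ K) *ᵥ e (rt 17) = e (rt 17)}
      one_mem' := by simp
      mul_mem' := fun {a b} ha hb => by
        simp only [Set.mem_setOf_eq] at ha hb ⊢
        rw [map_mul, Units.val_mul, ← Matrix.mulVec_mulVec, hb, ha]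
      inv_mem' := fun {a} ha => by
        simp only [Set.mem_setOf_eq] at ha ⊢
        conv_lhs => rw [← ha]
        rw [Matrix.mulVec_mulVec, ← Units.val_mul, ← map_mul, inv_mul_cancel, map_one, Units.val_one,
          Matrix.one_mulVec] }
  have htop := sl_induction P
    (fun t => by show _ = _; rw [phi_u]; exact xg_vec _ _ (by decide) (by rw [N_eval]; decide +kernel) t)
    (fun t => by show _ = _; rw [phi_l]; exact xg_vec _ _ (by decide) (by rw [N_eval]; decide +kernel) t)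
  exact (show h ∈ P by rw [htop]; trivial)

variable [Fintype K] {q : ℕ} (hq : IsPrimePow q) (hK : Fintype.card K = q ^ 3)

/-- The inclusion of the field with `q` elements. -/
def inc : R0 hq hK →+* K := Subfield.subtype _

instance : Fintype (R0 hq hK) := Fintype.ofFinite _

theorem card_R0 : Fintype.card (R0 hq hK) = q := by
  have h : Nat.card {c : K // c ^ q = c} = q := card_pow_eq_self hq.one_lt hK
  have e : R0 hq hK ≃ {c : K // c ^ q = c} :=
    Equiv.subtypeEquivRight fun c => by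
      show T3D4.frob hq hK c = c ↔ _
      rw [T3D4.frob_apply]
  rw [← Nat.card_eq_fintype_card, Nat.card_congr e, h]

/-- The norm to the field with `q` elements. -/
def nrm (q : ℕ) (a : Kˣ) : Kˣ := a ^ (q ^ 2 + q + 1)

/-- The torus parameters. -/
def dA (q : ℕ) (a : Kˣ) : Fin Cfsg.Lie.chevD4.rank → Kˣ := vec4 a 1 (a ^ q) ((a ^ q) ^ q)

theorem dA_mul (a b : Kˣ) : dA q (a * b) = dA q a * dA q b := by
  refine funext (forall_ix.mpr ⟨?_, ?_, ?_, ?_⟩) <;> simp [dA, vec4, mul_pow, Pi.mul_apply]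

theorem chi_dA (a : Kˣ) (s : Fin Cfsg.Lie.chevD4.nroots) :
    (Φ₄).toSys.chi ((Φ₄).coHom K (dA q a)) s =
      a ^ (Cfsg.Lie.chevD4.cartan 0 s.val + (q : ℤ) * Cfsg.Lie.chevD4.cartan 2 s.val + (q : ℤ) ^ 2 * Cfsg.Lie.chevD4.cartan 3 s.val) := by
  rw [chi_tor]
  show a ^ _ * (1 : Kˣ) ^ _ * (a ^ q) ^ _ * ((a ^ q) ^ q) ^ _ = _
  rw [_root_.one_zpow, mul_one, ← zpow_natCast a q, ← _root_.zpow_mul, ← zpow_natCast (a ^ (q : ℤ)) q,
    ← _root_.zpow_mul, ← _root_.zpow_mul, ← _root_.zpow_add, ← _root_.zpow_add]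
  congr 1; ring

theorem chi_dA14 (a : Kˣ) : (Φ₄).toSys.chi ((Φ₄).coHom K (dA q a)) (rt 14) = (nrm q a)⁻¹ := by
  rw [chi_dA, nrm, ← zpow_natCast, ← _root_.zpow_neg]
  congr 1
  rw [show Cfsg.Lie.chevD4.cartan 0 (rt 14).val = -1 by decide +kernel, show Cfsg.Lie.chevD4.cartan 2 (rt 14).val = -1 by decide +kernel,
    show Cfsg.Lie.chevD4.cartan 3 (rt 14).val = -1 by decide +kernel]
  push_cast; ring

theorem chi_dA9 (a : Kˣ) : (Φ₄).toSys.chi ((Φ₄).coHom K (dA q a)) (rt 9) = nrm q a := by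
  rw [show rt 9 = (rt 14).rev from rfl, (Φ₄).toSys.chi_neg, chi_dA14, inv_inv]

/-- Conjugation of a matrix of determinant one by `diag(1, c)`. -/
def cDfun (c : Kˣ) (h : SpecialLinearGroup (Fin 2) K) : SpecialLinearGroup (Fin 2) K :=
  ⟨!![h.1 0 0, h.1 0 1 * (c : K)⁻¹; (c : K) * h.1 1 0, h.1 1 1], by
    have := h.2
    rw [Matrix.det_fin_two] at this
    rw [Matrix.det_fin_two_of]
    field_simp
    linear_combination this⟩

theorem cDfun_val (c : Kˣ) (h : SpecialLinearGroup (Fin 2) K) :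
    (cDfun c h).1 = !![h.1 0 0, h.1 0 1 * (c : K)⁻¹; (c : K) * h.1 1 0, h.1 1 1] := rfl

variable (K) in
/-- Conjugation of `SL₂` by `diag(1, c)`. -/
def cD (c : Kˣ) : SpecialLinearGroup (Fin 2) K →* SpecialLinearGroup (Fin 2) K :=
  MonoidHom.mk' (cDfun c) fun a b => Subtype.ext (by
    rw [RankOne.val_mul, cDfun_val, cDfun_val, cDfun_val, RankOne.val_mul]
    ext i j
    fin_cases i <;> fin_cases j <;>
      simp [Matrix.mul_apply, Fin.sum_univ_two] <;> field_simp)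

theorem cD_val (c : Kˣ) (h : SpecialLinearGroup (Fin 2) K) :
    (cD K c h).1 = !![h.1 0 0, h.1 0 1 * (c : K)⁻¹; (c : K) * h.1 1 0, h.1 1 1] := rfl

theorem tor_phi (a : Kˣ) (h : SpecialLinearGroup (Fin 2) K) :
    Tw.tor (Φ := Φ₄) (dA q a) * phi K h = phi K (cD K (nrm q a) h) * Tw.tor (Φ := Φ₄) (dA q a) := by
  set T := Tw.tor (Φ := Φ₄) (dA q a) with hT
  have key : (MulAut.conj T).toMonoidHom.comp (phi K) = (phi K).comp (cD K (nrm q a)) := by
    have htop := sl_induction (((MulAut.conj T).toMonoidHom.comp (phi K)).eqLocus ((phi K).comp (cD K (nrm q a))))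
      (fun t => ?_) fun t => ?_
    refine MonoidHom.ext fun g => ?_
    · exact (show g ∈ ((MulAut.conj T).toMonoidHom.comp (phi K)).eqLocus ((phi K).comp (cD K (nrm q a))) by
        rw [htop]; trivial)
    · show T * phi K (RankOne.u t) * T⁻¹ = phi K (cD K (nrm q a) (RankOne.u t))
      rw [show cD K (nrm q a) (RankOne.u t) = RankOne.u (t * ((nrm q a : Kˣ) : K)⁻¹) from Subtype.ext (by
        rw [cD_val]; ext i j; fin_cases i <;> fin_cases j <;> simp [RankOne.u]), phi_u, phi_u, hT, tor_xg,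
        mul_inv_cancel_right, chi_dA14, Units.val_inv_eq_inv_val, mul_comm]
    · show T * phi K (RankOne.l t) * T⁻¹ = phi K (cD K (nrm q a) (RankOne.l t))
      rw [show cD K (nrm q a) (RankOne.l t) = RankOne.l (((nrm q a : Kˣ) : K) * t) from Subtype.ext (by
        rw [cD_val]; ext i j; fin_cases i <;> fin_cases j <;> simp [RankOne.l]), phi_l, phi_l, hT, tor_xg,
        mul_inv_cancel_right, chi_dA9]
  exact mul_inv_eq_iff_eq_mul.mp (DFunLike.congr_fun key h)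

theorem nrm_eq (x : Pairs (inc hq hK)) :
    (x.1.1.1.map (inc hq hK)).det = ((nrm q x.1.2 : Kˣ) : K) := by
  have h := (mem_pairs (inc hq hK)).mp x.2
  rw [card_R0 hq hK] at h
  show ((inc hq hK).mapMatrix x.1.1.1).det = _
  rw [← RingHom.map_det, h, nrm, Units.val_pow_eq_pow_val]

/-- The part of a pair in `SL₂`. -/
def slPart (x : Pairs (inc hq hK)) : SpecialLinearGroup (Fin 2) K :=
  ⟨!![(x.1.1.1 0 0 : K), (x.1.1.1 0 1 : K) * ((nrm q x.1.2 : Kˣ) : K)⁻¹;
      (x.1.1.1 1 0 : K), (x.1.1.1 1 1 : K) * ((nrm q x.1.2 : Kˣ) : K)⁻¹], by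
    have h := nrm_eq hq hK x
    rw [Matrix.det_fin_two] at h
    rw [Matrix.det_fin_two_of]
    have hne : ((nrm q x.1.2 : Kˣ) : K) ≠ 0 := Units.ne_zero _
    field_simp
    exact h⟩

theorem slPart_mul (x y : Pairs (inc hq hK)) :
    slPart hq hK (x * y) = slPart hq hK x * cD K (nrm q x.1.2) (slPart hq hK y) := by
  have hn : nrm q (x * y).1.2 = nrm q x.1.2 * nrm q y.1.2 := mul_pow _ _ _
  have hx : ((nrm q x.1.2 : Kˣ) : K) ≠ 0 := Units.ne_zero _
  have hy : ((nrm q y.1.2 : Kˣ) : K) ≠ 0 := Units.ne_zero _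
  have hm : ∀ i j, (((x * y).1.1.1 i j : R0 hq hK) : K) =
      (x.1.1.1 i 0 : K) * (y.1.1.1 0 j : K) + (x.1.1.1 i 1 : K) * (y.1.1.1 1 j : K) := fun i j => by
    show (((x.1.1.1 * y.1.1.1) i j : R0 hq hK) : K) = _
    rw [Matrix.mul_apply, Fin.sum_univ_two]
    push_cast; rfl
  refine Subtype.ext ?_
  rw [Matrix.SpecialLinearGroup.coe_mul, cD_val]
  ext i j
  fin_cases i <;> fin_cases j <;>
    simp [slPart, hn, hm, Units.val_mul, nrm, mul_pow, Matrix.mul_apply, Fin.sum_univ_two] <;> field_simp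

/-- The Levi homomorphism. -/
def theta : Pairs (inc hq hK) →* GL Cfsg.Lie.chevD4.Idx K :=
  MonoidHom.mk' (fun x => phi K (slPart hq hK x) * Tw.tor (Φ := Φ₄) (dA q x.1.2)) fun x y => by
    show phi K (slPart hq hK (x * y)) * Tw.tor (Φ := Φ₄) (dA q (x.1.2 * y.1.2)) = _
    rw [slPart_mul, map_mul, dA_mul, map_mul, mul_assoc (phi K (slPart hq hK x)), ← mul_assoc (phi K (cD K _ _)),
      ← tor_phi]
    simp only [mul_assoc]

theorem phi_mem (h : SpecialLinearGroup (Fin 2) (R0 hq hK)) :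
    phi K (SpecialLinearGroup.map (inc hq hK) h) ∈ twistedD4 K q := by
  have htop := sl_induction ((twistedD4 K q).comap ((phi K).comp (SpecialLinearGroup.map (inc hq hK))))
    (fun t => by
      show phi K (SpecialLinearGroup.map (inc hq hK) (RankOne.u t)) ∈ twistedD4 K q
      rw [show SpecialLinearGroup.map (inc hq hK) (RankOne.u t) = RankOne.u (t : K) from Subtype.ext (by
        show (inc hq hK).mapMatrix (RankOne.u t).1 = _
        ext i j; fin_cases i <;> fin_cases j <;> simp [RankOne.u, inc]), phi_u, ← p1_eq]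
      exact (one_gen (R0_pow hq hK t)).1)
    (fun t => by
      show phi K (SpecialLinearGroup.map (inc hq hK) (RankOne.l t)) ∈ twistedD4 K q
      rw [show SpecialLinearGroup.map (inc hq hK) (RankOne.l t) = RankOne.l (t : K) from Subtype.ext (by
        show (inc hq hK).mapMatrix (RankOne.l t).1 = _
        ext i j; fin_cases i <;> fin_cases j <;> simp [RankOne.l, inc]), phi_l, ← p1_rev]
      exact (one_gen (R0_pow hq hK t)).2)
  have : h ∈ (twistedD4 K q).comap ((phi K).comp (SpecialLinearGroup.map (inc hq hK))) := by rw [htop]; trivial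
  exact this

theorem tor_mem {d : Fin Cfsg.Lie.chevD4.rank → Kˣ} (hd : (tw hq hK).dmap d = d) :
    Tw.tor (Φ := Φ₄) d ∈ twistedD4 K q := by
  rw [T3D4.eq_fix hq hK]
  refine ⟨(Φ₄).H_le_group (Tw.tor_mem_H d), ?_⟩
  rw [Tw.app_tor, hd]

theorem theta_mem (x : Pairs (inc hq hK)) : theta hq hK x ∈ twistedD4 K q := by
  show phi K (slPart hq hK x) * Tw.tor (Φ := Φ₄) (dA q x.1.2) ∈ _
  refine mul_mem ?_ (tor_mem hq hK ((stable_iff hq hK _).mpr ⟨one_pow q, rfl, rfl⟩))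
  have hdet : ∃ c : R0 hq hK, (c : K) = ((nrm q x.1.2 : Kˣ) : K) :=
    ⟨(x.1.1 : Matrix (Fin 2) (Fin 2) (R0 hq hK)).det, by
      rw [← nrm_eq hq hK x]
      exact RingHom.map_det (inc hq hK) (x.1.1 : Matrix (Fin 2) (Fin 2) (R0 hq hK))⟩
  obtain ⟨c, hc⟩ := hdet
  have hd : (!![x.1.1.1 0 0, x.1.1.1 0 1 * c⁻¹; x.1.1.1 1 0, x.1.1.1 1 1 * c⁻¹] :
      Matrix (Fin 2) (Fin 2) (R0 hq hK)).det = 1 := by
    refine (inc hq hK).injective ?_
    have := (slPart hq hK x).2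
    simp only [slPart, Matrix.det_fin_two_of] at this
    rw [Matrix.det_fin_two_of, map_one, ← this]
    simp [inc, hc, Matrix.det_fin_two_of]
  rw [show slPart hq hK x = SpecialLinearGroup.map (inc hq hK) ⟨_, hd⟩ from Subtype.ext (by
    show _ = (inc hq hK).mapMatrix _
    ext i j; fin_cases i <;> fin_cases j <;> simp [slPart, inc, hc])]
  exact phi_mem hq hK _

/-- The action on the positive plane. -/
theorem theta_pos (x : Pairs (inc hq hK)) (v : Fin 2 → K) :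
    (theta hq hK x : Matrix _ _ K) *ᵥ pl (rt 19) (rt 18) v =
      pl (rt 19) (rt 18) (((x.1.2 : K) ^ 2 * ((nrm q x.1.2 : Kˣ) : K)⁻¹) • (x.1.1.1.map (inc hq hK) *ᵥ v)) := by
  show ((phi K (slPart hq hK x) * Tw.tor (Φ := Φ₄) (dA q x.1.2) : GL Cfsg.Lie.chevD4.Idx K) : Matrix Cfsg.Lie.chevD4.Idx Cfsg.Lie.chevD4.Idx K) *ᵥ _ = _
  have hχ19 : (Φ₄).toSys.chi ((Φ₄).coHom K (dA q x.1.2)) (rt 19) = x.1.2 ^ 2 * (nrm q x.1.2)⁻¹ := by
    rw [chi_dA, show Cfsg.Lie.chevD4.cartan 0 (rt 19).val = 1 by decide +kernel, show Cfsg.Lie.chevD4.cartan 2 (rt 19).val = -1 by decide +kernel,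
      show Cfsg.Lie.chevD4.cartan 3 (rt 19).val = -1 by decide +kernel, nrm, ← zpow_natCast, ← zpow_natCast, ← _root_.zpow_neg,
      ← _root_.zpow_add]
    congr 1; push_cast; ring
  have hχ18 : (Φ₄).toSys.chi ((Φ₄).coHom K (dA q x.1.2)) (rt 18) = x.1.2 ^ 2 := by
    rw [chi_dA, show Cfsg.Lie.chevD4.cartan 0 (rt 18).val = 2 by decide +kernel, show Cfsg.Lie.chevD4.cartan 2 (rt 18).val = 0 by decide +kernel,
      show Cfsg.Lie.chevD4.cartan 3 (rt 18).val = 0 by decide +kernel, ← zpow_natCast]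
    congr 1
  rw [Units.val_mul, ← Matrix.mulVec_mulVec,
    show (Tw.tor (Φ := Φ₄) (dA q x.1.2) : Matrix _ _ K) *ᵥ pl (rt 19) (rt 18) v =
      pl (rt 19) (rt 18) ![(x.1.2 : K) ^ 2 * ((nrm q x.1.2 : Kˣ) : K)⁻¹ * v 0, (x.1.2 : K) ^ 2 * v 1] by
      rw [pl, Matrix.mulVec_add, Matrix.mulVec_smul, Matrix.mulVec_smul, tor_vec, tor_vec, hχ19, hχ18, pl]
      simp [smul_smul, mul_comm], phi_pos]
  congr 1
  have hne : ((nrm q x.1.2 : Kˣ) : K) ≠ 0 := Units.ne_zero _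
  ext i
  fin_cases i <;> simp [slPart, inc, Matrix.mulVec, dotProduct, Fin.sum_univ_two] <;> field_simp

/-- The action on the negative plane. -/
theorem theta_neg (x : Pairs (inc hq hK)) (v : Fin 2 → K) :
    (theta hq hK x : Matrix _ _ K) *ᵥ pl (rt 5) (rt 4) v =
      pl (rt 5) (rt 4) (((x.1.2 : K) ^ 2)⁻¹ • (flipOff (-1) (x.1.1.1.map (inc hq hK)) *ᵥ v)) := by
  show ((phi K (slPart hq hK x) * Tw.tor (Φ := Φ₄) (dA q x.1.2) : GL Cfsg.Lie.chevD4.Idx K) : Matrix Cfsg.Lie.chevD4.Idx Cfsg.Lie.chevD4.Idx K) *ᵥ _ = _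
  have hχ5 : (Φ₄).toSys.chi ((Φ₄).coHom K (dA q x.1.2)) (rt 5) = (x.1.2 ^ 2)⁻¹ := by
    rw [chi_dA, show Cfsg.Lie.chevD4.cartan 0 (rt 5).val = -2 by decide +kernel, show Cfsg.Lie.chevD4.cartan 2 (rt 5).val = 0 by decide +kernel,
      show Cfsg.Lie.chevD4.cartan 3 (rt 5).val = 0 by decide +kernel, ← zpow_natCast, ← _root_.zpow_neg]
    congr 1
  have hχ4 : (Φ₄).toSys.chi ((Φ₄).coHom K (dA q x.1.2)) (rt 4) = (x.1.2 ^ 2)⁻¹ * nrm q x.1.2 := by
    rw [chi_dA, show Cfsg.Lie.chevD4.cartan 0 (rt 4).val = -1 by decide +kernel, show Cfsg.Lie.chevD4.cartan 2 (rt 4).val = 1 by decide +kernel,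
      show Cfsg.Lie.chevD4.cartan 3 (rt 4).val = 1 by decide +kernel, nrm, ← zpow_natCast, ← zpow_natCast, ← _root_.zpow_neg,
      ← _root_.zpow_add]
    congr 1; push_cast; ring
  rw [Units.val_mul, ← Matrix.mulVec_mulVec,
    show (Tw.tor (Φ := Φ₄) (dA q x.1.2) : Matrix _ _ K) *ᵥ pl (rt 5) (rt 4) v =
      pl (rt 5) (rt 4) ![((x.1.2 : K) ^ 2)⁻¹ * v 0, ((x.1.2 : K) ^ 2)⁻¹ * ((nrm q x.1.2 : Kˣ) : K) * v 1] by
      rw [pl, Matrix.mulVec_add, Matrix.mulVec_smul, Matrix.mulVec_smul, tor_vec, tor_vec, hχ5, hχ4, pl]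
      simp [smul_smul, mul_comm], phi_neg]
  congr 1
  have hne : ((nrm q x.1.2 : Kˣ) : K) ≠ 0 := Units.ne_zero _
  ext i
  fin_cases i <;> simp [slPart, flipOff, inc, Matrix.mulVec, dotProduct, Fin.sum_univ_two] <;> field_simp

theorem theta_17 (x : Pairs (inc hq hK)) :
    (theta hq hK x : Matrix _ _ K) *ᵥ e (rt 17) =
      ((x.1.2 ^ ((q : ℤ) ^ 2 + q - 1) : Kˣ) : K) • e (rt 17) := by
  show ((phi K (slPart hq hK x) * Tw.tor (Φ := Φ₄) (dA q x.1.2) : GL Cfsg.Lie.chevD4.Idx K) : Matrix Cfsg.Lie.chevD4.Idx Cfsg.Lie.chevD4.Idx K) *ᵥ _ = _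
  rw [Units.val_mul, ← Matrix.mulVec_mulVec, tor_vec, Matrix.mulVec_smul, phi_fix17, chi_dA,
    show Cfsg.Lie.chevD4.cartan 0 (rt 17).val = -1 by decide +kernel, show Cfsg.Lie.chevD4.cartan 2 (rt 17).val = 1 by decide +kernel,
    show Cfsg.Lie.chevD4.cartan 3 (rt 17).val = 1 by decide +kernel]
  congr 3; ring

theorem theta_injective : Function.Injective (theta hq hK) := by
  rw [← MonoidHom.ker_eq_bot_iff, Subgroup.eq_bot_iff_forall]
  intro x hx
  have hx' : theta hq hK x = 1 := hx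
  have hp : ∀ v, ((x.1.2 : K) ^ 2 * ((nrm q x.1.2 : Kˣ) : K)⁻¹) • (x.1.1.1.map (inc hq hK) *ᵥ v) = v := fun v =>
    pl_injective (show rt 19 ≠ rt 18 by decide) (by rw [← theta_pos, hx', Units.val_one, Matrix.one_mulVec])
  have hn : ∀ v, ((x.1.2 : K) ^ 2)⁻¹ • (flipOff (-1) (x.1.1.1.map (inc hq hK)) *ᵥ v) = v := fun v =>
    pl_injective (show rt 5 ≠ rt 4 by decide) (by rw [← theta_neg, hx', Units.val_one, Matrix.one_mulVec])
  have h17 : ((x.1.2 ^ ((q : ℤ) ^ 2 + q - 1) : Kˣ) : K) = 1 := by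
    have h := congrFun (theta_17 hq hK x) (Sum.inr (rt 17))
    rw [hx', Units.val_one, Matrix.one_mulVec] at h
    simpa [e] using h.symm
  set A := x.1.1.1.map (inc hq hK) with hA
  set a := (x.1.2 : K) with ha
  have ha0 : a ≠ 0 := Units.ne_zero _
  have hN0 : ((nrm q x.1.2 : Kˣ) : K) ≠ 0 := Units.ne_zero _
  have p00 := congrFun (hp ![1, 0]) 0
  have p10 := congrFun (hp ![1, 0]) 1
  have p01 := congrFun (hp ![0, 1]) 0
  have p11 := congrFun (hp ![0, 1]) 1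
  have n00 := congrFun (hn ![1, 0]) 0
  have n11 := congrFun (hn ![0, 1]) 1
  simp [flipOff, Matrix.mulVec, dotProduct, Fin.sum_univ_two, ha0, hN0] at p00 p10 p01 p11 n00 n11
  field_simp at p00 p11 n00 n11
  have hNa : ((nrm q x.1.2 : Kˣ) : K) = a ^ 4 := by linear_combination (-1 : K) * p00 + a ^ 2 * n00
  have hdet := nrm_eq hq hK x
  rw [← hA, Matrix.det_fin_two, p01, n00, n11] at hdet
  have hS : ((q : ℤ) ^ 2 + q + 1) = ((q ^ 2 + q + 1 : ℕ) : ℤ) := by push_cast; ring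
  have h2 : nrm q x.1.2 = x.1.2 ^ 2 := by
    have e1 : x.1.2 ^ ((q : ℤ) ^ 2 + q - 1) = 1 := Units.ext h17
    rw [nrm, ← zpow_natCast, ← hS, show (q : ℤ) ^ 2 + q + 1 = ((q : ℤ) ^ 2 + q - 1) + ((2 : ℕ) : ℤ) by push_cast; ring,
      _root_.zpow_add, e1, one_mul, zpow_natCast]
  have hsq : a ^ 2 = 1 := by
    have e2 : ((nrm q x.1.2 : Kˣ) : K) = a ^ 2 := by rw [h2, Units.val_pow_eq_pow_val]
    refine mul_left_cancel₀ (pow_ne_zero 2 ha0) ?_
    rw [mul_one, ← pow_add]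
    exact hNa.symm.trans e2
  have hu : x.1.2 = 1 := by
    have u2 : x.1.2 ^ 2 = 1 := Units.ext (by rw [Units.val_pow_eq_pow_val]; exact hsq)
    have hodd : Odd (q ^ 2 + q + 1) := by
      rw [show q ^ 2 + q + 1 = q * (q + 1) + 1 by ring]
      exact (Nat.even_mul_succ_self q).add_one
    obtain ⟨k, hk⟩ := hodd
    have := h2
    rw [u2, nrm, hk, pow_succ, pow_mul, u2, one_pow, one_mul] at this
    exact this
  refine Subtype.ext (Prod.ext (Units.ext ?_) hu)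
  refine Matrix.map_injective (inc hq hK).injective ?_
  show A = ((1 : Matrix (Fin 2) (Fin 2) (R0 hq hK))).map (inc hq hK)
  rw [Matrix.map_one _ (map_zero _) (map_one _)]
  ext i j
  fin_cases i <;> fin_cases j <;> simp [p10, p01, n00, n11, hsq]

end

end CfsgLib.D4Torus
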