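import Cfsg.Agent.Lib.D4Torus.Theta

/-!
The centraliser in `³D₄(q)` of the cyclic torus of order `(q³ - 1)(q + 1)`.
-/

set_option autoImplicit false
set_option linter.unusedSectionVars false
set_option linter.dupNamespace false
set_option maxRecDepth 100000

namespace CfsgLib.D4Torus

open Cfsg.Lie CfsgLib.Chev CfsgLib.Chev.Chev Matrix
open CfsgLib.Chev.T3D4 (ix ox tw R0 R0_pow one_gen stable_iff forall_ix vec4 orb0 gen A_val k_p tau_cases)

noncomputable section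

local notation "Φ₄" => CfsgLib.Chev.chevD4
local notation "S₄" => CfsgLib.Chev.T3D4.S

theorem p0_eq : (Φ₄).p (ix 0) = rt 18 := Fin.ext (by rw [(Φ₄).p_val]; decide +kernel)
theorem p2_eq : (Φ₄).p (ix 2) = rt 13 := Fin.ext (by rw [(Φ₄).p_val]; decide +kernel)
theorem p3_eq : (Φ₄).p (ix 3) = rt 12 := Fin.ext (by rw [(Φ₄).p_val]; decide +kernel)

theorem eq_one_of_fix {π : Equiv.Perm (Fin Cfsg.Lie.chevD4.nroots)} (hπ : π ∈ (S₄).W1)
    (h18 : π (rt 18) = rt 18) (h17 : π (rt 17) = rt 17) : π = 1 := by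
  obtain ⟨hW, hρ⟩ := (S₄).mem_W1.mp hπ
  have hp0 : π ((Φ₄).p (ix 0)) = (Φ₄).p (ix 0) := by rw [p0_eq, h18]
  have hp2 : π ((Φ₄).p (ix 2)) = (Φ₄).p (ix 2) := by
    have h := hρ ((Φ₄).p (ix 0))
    rwa [hp0, (S₄).ρ_p, tau_cases.1] at h
  have hp3 : π ((Φ₄).p (ix 3)) = (Φ₄).p (ix 3) := by
    have h := hρ ((Φ₄).p (ix 2))
    rwa [hp2, (S₄).ρ_p, tau_cases.2.2.1] at h
  have hp1 : π ((Φ₄).p (ix 1)) = (Φ₄).p (ix 1) := by
    refine (Φ₄).toSys.V_inj fun j => ?_
    have h := (Φ₄).W_lin hW (rt 17) j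
    have h1 := (Φ₄).W_lin (one_mem (Φ₄).W) (rt 17) j
    rw [h17] at h
    simp only [Equiv.Perm.coe_one, id_eq] at h1
    have v0 : (Φ₄).V (rt 17) (ix 0) = 0 := by show packD4.V 17 0 = 0; decide +kernel
    have v1 : (Φ₄).V (rt 17) (ix 1) = 1 := by show packD4.V 17 1 = 1; decide +kernel
    have v2 : (Φ₄).V (rt 17) (ix 2) = 1 := by show packD4.V 17 2 = 1; decide +kernel
    have v3 : (Φ₄).V (rt 17) (ix 3) = 1 := by show packD4.V 17 3 = 1; decide +kernel
    have e : ∀ f : Fin Cfsg.Lie.chevD4.rank → ℤ, ∑ k, f k = f (ix 0) + f (ix 1) + f (ix 2) + f (ix 3) :=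
      fun f => Fin.sum_univ_four f
    rw [e, v0, v1, v2, v3, hp0, hp2, hp3] at h
    rw [e, v0, v1, v2, v3] at h1
    linarith
  refine (Φ₄).W_eq_one_of_pos hW fun r hr => (Φ₄).pos_of_comb hW (fun k => ?_) hr
  revert k
  refine forall_ix.mpr ⟨?_, ?_, ?_, ?_⟩
  · rw [hp0]; exact (Φ₄).p_pos _
  · rw [hp1]; exact (Φ₄).p_pos _
  · rw [hp2]; exact (Φ₄).p_pos _
  · rw [hp3]; exact (Φ₄).p_pos _

/-- The class of a root for the norm one torus. -/
def cls (r : Fin Cfsg.Lie.chevD4.nroots) : ℤ × ℤ :=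
  (Cfsg.Lie.chevD4.cartan 0 r.val - Cfsg.Lie.chevD4.cartan 3 r.val,
    Cfsg.Lie.chevD4.cartan 2 r.val - Cfsg.Lie.chevD4.cartan 3 r.val)

/-- The possible classes. -/
def clsList : List (ℤ × ℤ) := [(0, 0), (2, 0), (-2, 0), (0, 2), (0, -2), (2, 2), (-2, -2)]

theorem cls_mem : ∀ r, cls r ∈ clsList := by decide +kernel
theorem cls_zero : ∀ r : Fin Cfsg.Lie.chevD4.nroots, cls r = (0, 0) → 12 ≤ r.val →
    r = rt 14 ∨ r = rt 22 ∨ r = rt 23 := by decide +kernel
theorem cls_17 : ∀ r : Fin Cfsg.Lie.chevD4.nroots, cls r = cls (rt 17) → r = rt 4 ∨ r = rt 5 ∨ r = rt 17 := by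
  decide +kernel
theorem cls_18 : ∀ r : Fin Cfsg.Lie.chevD4.nroots, cls r = cls (rt 18) → r = rt 6 ∨ r = rt 18 ∨ r = rt 19 := by
  decide +kernel

variable {K : Type*} [Field K]

/-- The value of the product of the root elements `14, 22, 23`. -/
def tri (a b c : K) : GL Cfsg.Lie.chevD4.Idx K :=
  (Φ₄).toAlg.xg (rt 14) a * (Φ₄).toAlg.xg (rt 22) b * (Φ₄).toAlg.xg (rt 23) c

theorem fix_vec {r s : Fin Cfsg.Lie.chevD4.nroots} (hs : s ≠ r.rev) (hN : packD4.N r.val s.val = 0) (t : K) :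
    ((Φ₄).toAlg.xg r t : Matrix _ _ K) *ᵥ e s = e s :=
  xg_vec r s hs (by rw [N_eval, hN]) t

theorem move_vec {r s u : Fin Cfsg.Lie.chevD4.nroots} (hr : s ≠ r) (hs : s ≠ r.rev)
    (hu : packD4.S r.val s.val % 24 = u.val) (hN : packD4.N r.val u.val = 0) (t : K) :
    ((Φ₄).toAlg.xg r t : Matrix _ _ K) *ᵥ e s = e s + (t * (packD4.N r.val s.val : K)) • e u := by
  rw [xg_vec' r s u hr hs (Fin.ext (by rw [S_eval, hu])) (by rw [N_eval, hN]) t, N_eval]

theorem tri17 (a b c : K) : (tri a b c : Matrix _ _ K) *ᵥ e (rt 17) = e (rt 17) := by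
  rw [tri, Units.val_mul, Units.val_mul, ← Matrix.mulVec_mulVec, fix_vec (by decide) (by decide +kernel),
    ← Matrix.mulVec_mulVec, fix_vec (by decide) (by decide +kernel), fix_vec (by decide) (by decide +kernel)]

theorem tri5 (a b c : K) : ∃ δ : K, (tri a b c : Matrix _ _ K) *ᵥ e (rt 5) = e (rt 5) + δ • e (rt 17) := by
  refine ⟨b * (packD4.N 22 5 : K), ?_⟩
  rw [tri, Units.val_mul, Units.val_mul, ← Matrix.mulVec_mulVec, fix_vec (by decide) (by decide +kernel),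
    ← Matrix.mulVec_mulVec, move_vec (u := rt 17) (by decide) (by decide) (by decide +kernel) (by decide +kernel),
    Matrix.mulVec_add, Matrix.mulVec_smul, fix_vec (by decide) (by decide +kernel),
    fix_vec (by decide) (by decide +kernel)]

theorem tri4 (a b c : K) :
    ∃ β δ : K, (tri a b c : Matrix _ _ K) *ᵥ e (rt 4) = β • e (rt 5) + e (rt 4) + δ • e (rt 17) := by
  refine ⟨a * (packD4.N 14 4 : K), c * (packD4.N 23 4 : K), ?_⟩
  rw [tri, Units.val_mul, Units.val_mul, ← Matrix.mulVec_mulVec,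
    move_vec (r := rt 23) (s := rt 4) (u := rt 17) (by decide) (by decide) (by decide +kernel) (by decide +kernel),
    Matrix.mulVec_add, Matrix.mulVec_smul, ← Matrix.mulVec_mulVec, ← Matrix.mulVec_mulVec,
    fix_vec (r := rt 22) (s := rt 4) (by decide) (by decide +kernel),
    fix_vec (r := rt 22) (s := rt 17) (by decide) (by decide +kernel),
    move_vec (r := rt 14) (s := rt 4) (u := rt 5) (by decide) (by decide) (by decide +kernel) (by decide +kernel),
    fix_vec (r := rt 14) (s := rt 17) (by decide) (by decide +kernel)]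
  abel

theorem tri6 (a b c : K) : (tri a b c : Matrix _ _ K) *ᵥ e (rt 6) =
    e (rt 6) + pl (rt 19) (rt 18) ![-(a * b) - c, -b] := by
  have n1 : packD4.N 22 6 = -1 := by decide +kernel
  have n2 : packD4.N 23 6 = -1 := by decide +kernel
  have n3 : packD4.N 14 18 = 1 := by decide +kernel
  rw [tri, Units.val_mul, Units.val_mul, ← Matrix.mulVec_mulVec,
    move_vec (u := rt 19) (by decide) (by decide) (by decide +kernel) (by decide +kernel), Matrix.mulVec_add,
    Matrix.mulVec_smul, ← Matrix.mulVec_mulVec, ← Matrix.mulVec_mulVec,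
    move_vec (u := rt 18) (by decide) (by decide) (by decide +kernel) (by decide +kernel),
    fix_vec (r := rt 22) (s := rt 19) (by decide) (by decide +kernel), Matrix.mulVec_add, Matrix.mulVec_smul,
    fix_vec (r := rt 14) (s := rt 6) (by decide) (by decide +kernel),
    move_vec (u := rt 19) (by decide) (by decide) (by decide +kernel) (by decide +kernel),
    fix_vec (r := rt 14) (s := rt 19) (by decide) (by decide +kernel), n1, n2, n3, pl]
  simp only [Matrix.cons_val_zero, Matrix.cons_val_one, Int.cast_neg, Int.cast_one, mul_neg, mul_one, neg_smul]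
  module

theorem phi_fix6 (h : SpecialLinearGroup (Fin 2) K) : (phi K h : Matrix _ _ K) *ᵥ e (rt 6) = e (rt 6) := by
  let P : Subgroup (SpecialLinearGroup (Fin 2) K) :=
    { carrier := {g | (phi K g : Matrix _ _ K) *ᵥ e (rt 6) = e (rt 6)}
      one_mem' := by simp
      mul_mem' := fun {a b} ha hb => by
        simp only [Set.mem_setOf_eq] at ha hb ⊢
        rw [map_mul, Units.val_mul, ← Matrix.mulVec_mulVec, hb, ha]
      inv_mem' := fun {a} ha => by
        simp only [Set.mem_setOf_eq] at ha ⊢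
        conv_lhs => rw [← ha]
        rw [Matrix.mulVec_mulVec, ← Units.val_mul, ← map_mul, inv_mul_cancel, map_one, Units.val_one,
          Matrix.one_mulVec] }
  have htop := sl_induction P
    (fun t => by show _ = _; rw [phi_u]; exact fix_vec (by decide) (by decide +kernel) t)
    (fun t => by show _ = _; rw [phi_l]; exact fix_vec (by decide) (by decide +kernel) t)
  exact (show h ∈ P by rw [htop]; trivial)

/-- Separation of a root component. -/
theorem pl_add_eq {s₁ s₂ s : Fin Cfsg.Lie.chevD4.nroots} (h1 : s ≠ s₁) (h2 : s ≠ s₂) (h : s₁ ≠ s₂)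
    {v w : Fin 2 → K} {c d : K} (he : pl s₁ s₂ v + c • e s = pl s₁ s₂ w + d • e s) : v = w ∧ c = d := by
  have hc : c = d := by
    have := congrFun he (Sum.inr s)
    simpa [pl, e, h1, h2] using this
  subst hc
  exact ⟨pl_injective h (add_right_cancel he), rfl⟩

theorem torConj_prodL (t : Fin Cfsg.Lie.chevD4.nroots → K) (d : Fin Cfsg.Lie.chevD4.rank → Kˣ) :
    ∀ L : List (Fin Cfsg.Lie.chevD4.nroots),
      Tw.tor (Φ := Φ₄) d * (Φ₄).prodL L t * (Tw.tor (Φ := Φ₄) d)⁻¹ =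
        (Φ₄).prodL L fun r => ((Φ₄).toSys.chi ((Φ₄).coHom K d) r : K) * t r
  | [] => by simp [prodL]
  | r :: L => by
    simp only [prodL, List.map_cons, List.prod_cons] at *
    rw [← mul_assoc, tor_xg, mul_assoc, mul_assoc, ← mul_assoc (Tw.tor (Φ := Φ₄) d)]
    congr 1
    exact torConj_prodL t d L

variable [Fintype K] {q : ℕ} (hq : IsPrimePow q) (hK : Fintype.card K = q ^ 3)

theorem theta_6 (x : Pairs (inc hq hK)) :
    ∃ c : K, (theta hq hK x : Matrix _ _ K) *ᵥ e (rt 6) = c • e (rt 6) := by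
  refine ⟨((((Φ₄).toSys).chi ((Φ₄).coHom K (dA q x.1.2)) (rt 6) : Kˣ) : K), ?_⟩
  show ((phi K (slPart hq hK x) * Tw.tor (Φ := Φ₄) (dA q x.1.2) : GL Cfsg.Lie.chevD4.Idx K) :
    Matrix Cfsg.Lie.chevD4.Idx Cfsg.Lie.chevD4.Idx K) *ᵥ _ = _
  rw [Units.val_mul, ← Matrix.mulVec_mulVec, tor_vec, Matrix.mulVec_smul, phi_fix6]

/-- An element of `GL₂(q)` without eigenvalues in `GF(q)` has none in `GF(q³)`. -/
theorem no_eigen {A : GL (Fin 2) (R0 hq hK)} (hA : ∀ c : R0 hq hK, (A.1 - c • (1 : Matrix _ _ _)).det ≠ 0)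
    {w : Fin 2 → K} {μ : K} (h : A.1.map (inc hq hK) *ᵥ w = μ • w) : w = 0 := by
  by_contra hw
  have hdet : (A.1.map (inc hq hK) - μ • (1 : Matrix (Fin 2) (Fin 2) K)).det = 0 := by
    refine Matrix.exists_mulVec_eq_zero_iff.mp ⟨w, hw, ?_⟩
    rw [Matrix.sub_mulVec, Matrix.smul_mulVec, Matrix.one_mulVec, h, sub_self]
  set t : R0 hq hK := A.1 0 0 + A.1 1 1 with ht
  set n : R0 hq hK := A.1 0 0 * A.1 1 1 - A.1 0 1 * A.1 1 0 with hn
  have hquad : ∀ x : K, (A.1.map (inc hq hK) - x • (1 : Matrix (Fin 2) (Fin 2) K)).det = x ^ 2 - (t : K) * x + n := by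
    intro x
    rw [Matrix.det_fin_two, ht, hn]
    simp [inc]
    ring
  rw [hquad] at hdet
  set f := T3D4.frob hq hK with hf
  have hfix : ∀ c : R0 hq hK, f (c : K) = c := fun c => c.2
  have hroot : ∀ x : K, x ^ 2 - (t : K) * x + n = 0 → f x ^ 2 - (t : K) * f x + n = 0 := fun x hx => by
    have := congrArg f hx
    simpa [map_add, map_sub, map_mul, map_pow, hfix] using this
  have hμ : f μ = μ := by
    by_contra hne
    have h2 := hroot μ hdet
    have hs : μ + f μ = t := by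
      have : (μ - f μ) * (μ + f μ - t) = 0 := by linear_combination hdet - h2
      exact sub_eq_zero.mp ((mul_eq_zero.mp this).resolve_left (sub_ne_zero.mpr (Ne.symm hne)))
    have hs' : f μ + f (f μ) = t := by rw [← map_add, hs, hfix]
    have h3 : f (f μ) = μ := by linear_combination hs' - hs
    have h4 : f (f (f μ)) = μ := by
      simp only [hf, T3D4.frob_apply]
      exact T3D4.pow_q3 hK μ
    rw [h3] at h4
    exact hne h4
  refine hA ⟨μ, hμ⟩ ((inc hq hK).injective ?_)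
  rw [map_zero, RingHom.map_det]
  have he : (inc hq hK).mapMatrix (A.1 - (⟨μ, hμ⟩ : R0 hq hK) • (1 : Matrix (Fin 2) (Fin 2) (R0 hq hK))) =
      A.1.map (inc hq hK) - μ • (1 : Matrix (Fin 2) (Fin 2) K) := by
    ext i j
    fin_cases i <;> fin_cases j <;> simp [inc]
  rw [he, hquad]
  exact hdet

variable {γ : Pairs (inc hq hK)} (hγ : ∀ c : R0 hq hK, (γ.1.1.1 - c • (1 : Matrix _ _ _)).det ≠ 0)

include hγ in
theorem pl_neg_zero {w : Fin 2 → K} {δ : K}
    (h : (theta hq hK γ : Matrix _ _ K) *ᵥ (pl (rt 5) (rt 4) w + δ • e (rt 17)) =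
      ((γ.1.2 ^ ((q : ℤ) ^ 2 + q - 1) : Kˣ) : K) • (pl (rt 5) (rt 4) w + δ • e (rt 17))) : w = 0 := by
  set lam := ((γ.1.2 ^ ((q : ℤ) ^ 2 + q - 1) : Kˣ) : K)
  rw [Matrix.mulVec_add, Matrix.mulVec_smul, theta_neg, theta_17, smul_add, smul_smul, smul_smul,
    show lam • pl (rt 5) (rt 4) w = pl (rt 5) (rt 4) (lam • w) by simp [pl, smul_add, smul_smul]] at h
  obtain ⟨hw, -⟩ := pl_add_eq (by decide) (by decide) (by decide) h
  have ha : ((γ.1.2 : K) ^ 2) ≠ 0 := pow_ne_zero 2 (Units.ne_zero _)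
  have h0 := congrFun hw 0
  have h1 := congrFun hw 1
  simp [flipOff, Matrix.mulVec, dotProduct, Fin.sum_univ_two, ha] at h0 h1
  field_simp at h0 h1
  have := no_eigen hq hK hγ (w := ![w 0, -w 1]) (μ := lam * (γ.1.2 : K) ^ 2) (by
    ext i
    fin_cases i <;> simp [Matrix.mulVec, dotProduct, Fin.sum_univ_two]
    · linear_combination h0
    · linear_combination (-1 : K) * h1)
  ext i
  fin_cases i
  · simpa using congrFun this 0
  · simpa using congrFun this 1

include hγ in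
theorem pl_pos_zero {w : Fin 2 → K} {c lam : K}
    (hc : (theta hq hK γ : Matrix _ _ K) *ᵥ e (rt 6) = c • e (rt 6)) (hlam : lam = c)
    (h : (theta hq hK γ : Matrix _ _ K) *ᵥ (pl (rt 19) (rt 18) w + (1 : K) • e (rt 6)) =
      lam • (pl (rt 19) (rt 18) w + (1 : K) • e (rt 6))) : w = 0 := by
  rw [Matrix.mulVec_add, Matrix.mulVec_smul, theta_pos, hc, smul_add, smul_smul, smul_smul,
    show lam • pl (rt 19) (rt 18) w = pl (rt 19) (rt 18) (lam • w) by simp [pl, smul_add, smul_smul]] at h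
  obtain ⟨hw, -⟩ := pl_add_eq (by decide) (by decide) (by decide) h
  set s := (γ.1.2 : K) ^ 2 * ((nrm q γ.1.2 : Kˣ) : K)⁻¹ with hs
  have hs0 : s ≠ 0 := mul_ne_zero (pow_ne_zero 2 (Units.ne_zero _)) (inv_ne_zero (Units.ne_zero _))
  refine no_eigen hq hK hγ (μ := s⁻¹ * lam) ?_
  rw [← smul_smul, ← hw, inv_smul_smul₀ hs0]

theorem theta_ker : Function.Injective (theta hq hK) := theta_injective hq hK

/-- Elements of `SL₂(q)` in the image. -/
theorem phi_range (h : SpecialLinearGroup (Fin 2) (R0 hq hK)) :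
    phi K (SpecialLinearGroup.map (inc hq hK) h) ∈ (theta hq hK).range := by
  let g : GL (Fin 2) (R0 hq hK) := Matrix.SpecialLinearGroup.toGL h
  have hg : ((g, 1) : GL (Fin 2) (R0 hq hK) × Kˣ) ∈ Pairs (inc hq hK) := by
    rw [mem_pairs]
    show inc hq hK h.1.det = _
    rw [h.2, map_one]
    simp
  refine ⟨⟨_, hg⟩, ?_⟩
  show phi K (slPart hq hK ⟨_, hg⟩) * Tw.tor (Φ := Φ₄) (dA q (1 : Kˣ)) = _
  have h1 : dA q (1 : Kˣ) = 1 := by
    refine funext (forall_ix.mpr ⟨?_, ?_, ?_, ?_⟩) <;> simp [dA, vec4]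
  rw [h1, map_one, mul_one]
  congr 1
  refine Subtype.ext ?_
  show _ = (inc hq hK).mapMatrix h.1
  ext i j
  fin_cases i <;> fin_cases j <;> simp [slPart, nrm, inc, g]

theorem xg14_range {a : K} (ha : a ^ q = a) : (Φ₄).toAlg.xg (rt 14) a ∈ (theta hq hK).range := by
  have h := phi_range hq hK (RankOne.u ⟨a, T3D4.mem_R0 hq hK ha⟩)
  rwa [show SpecialLinearGroup.map (inc hq hK) (RankOne.u ⟨a, T3D4.mem_R0 hq hK ha⟩) = RankOne.u a from Subtype.ext (by
    show (inc hq hK).mapMatrix (RankOne.u (⟨a, T3D4.mem_R0 hq hK ha⟩ : R0 hq hK)).1 = _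
    ext i j; fin_cases i <;> fin_cases j <;> simp [RankOne.u, inc]), phi_u] at h

theorem tor_range {d : Fin Cfsg.Lie.chevD4.rank → Kˣ} (hd : (tw hq hK).dmap d = d) :
    Tw.tor (Φ := Φ₄) d ∈ (theta hq hK).range := by
  obtain ⟨h1, h2, h3⟩ := (stable_iff hq hK d).mp hd
  have hsplit : d = Pi.mulSingle (ix 1) (d (ix 1)) * dA q (d (ix 0)) := by
    refine funext (forall_ix.mpr ⟨?_, ?_, ?_, ?_⟩) <;> simp [dA, vec4, Pi.mul_apply, h2, h3, Pi.mulSingle, Function.update]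
  rw [hsplit, map_mul, Tw.tor_single, p1_eq]
  set b := d (ix 1) with hb
  have hbq : ((b : K)) ^ q = b := by rw [← Units.val_pow_eq_pow_val, h1]
  let b0 : R0 hq hK := ⟨b, T3D4.mem_R0 hq hK hbq⟩
  have hb0 : b0 ≠ 0 := fun h => b.ne_zero (congrArg Subtype.val h)
  let hm : SpecialLinearGroup (Fin 2) (R0 hq hK) := ⟨!![b0, 0; 0, b0⁻¹], by
    rw [Matrix.det_fin_two_of, mul_zero, sub_zero, mul_inv_cancel₀ hb0]⟩
  refine mul_mem ?_ ?_
  · have h := phi_range hq hK hm
    rwa [show phi K (SpecialLinearGroup.map (inc hq hK) hm) = (Φ₄).hw (rt 14) b from by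
      show ((Φ₄).rankOne K (rt 14)).f _ = _
      rw [RankOne.f_of_zero _ (g := SpecialLinearGroup.map (inc hq hK) hm)
        (by show ((inc hq hK).mapMatrix hm.1) 1 0 = 0; simp [hm, inc]) b
        (by show ((inc hq hK).mapMatrix hm.1) 0 0 = _; simp [hm, inc, b0]),
        show (SpecialLinearGroup.map (inc hq hK) hm).1 0 1 = 0 from by
          show ((inc hq hK).mapMatrix hm.1) 0 1 = 0; simp [hm, inc], zero_div, RankOne.x_zero, mul_one]
      rfl] at h
  · set a := d (ix 0) with ha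
    obtain ⟨c, hc⟩ : ∃ c : R0 hq hK, (c : K) = ((nrm q a : Kˣ) : K) := by
      refine ⟨⟨_, T3D4.mem_R0 hq hK ?_⟩, rfl⟩
      show ((a ^ (q ^ 2 + q + 1) : Kˣ) : K) ^ q = ((a ^ (q ^ 2 + q + 1) : Kˣ) : K)
      rw [Units.val_pow_eq_pow_val, ← pow_mul]
      have h : (a : K) ^ q ^ 3 = a := by rw [← hK, FiniteField.pow_card]
      rw [show (q ^ 2 + q + 1) * q = q ^ 3 + q ^ 2 + q by ring, pow_add, pow_add, h, pow_add, pow_add, pow_one]
      ring
    have hc0 : c ≠ 0 := fun h => (nrm q a).ne_zero (hc ▸ congrArg Subtype.val h)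
    let g : GL (Fin 2) (R0 hq hK) := Matrix.GeneralLinearGroup.mkOfDetNeZero !![1, 0; 0, c] (by simp [hc0])
    have hg : ((g, a) : GL (Fin 2) (R0 hq hK) × Kˣ) ∈ Pairs (inc hq hK) := by
      rw [mem_pairs, card_R0 hq hK]
      show inc hq hK (!![1, 0; 0, c] : Matrix (Fin 2) (Fin 2) (R0 hq hK)).det = _
      rw [Matrix.det_fin_two_of, one_mul, mul_zero, sub_zero, ← Units.val_pow_eq_pow_val, ← nrm, ← hc]
      rfl
    refine ⟨⟨_, hg⟩, ?_⟩
    show phi K (slPart hq hK ⟨_, hg⟩) * Tw.tor (Φ := Φ₄) (dA q a) = _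
    rw [show slPart hq hK ⟨_, hg⟩ = 1 from Subtype.ext (by
      ext i j; fin_cases i <;> fin_cases j <;> simp [slPart, g, hc, Units.ne_zero]), map_one, one_mul]

include hγ in
/-- Commuting with the torus element forces membership in the Levi subgroup. -/
theorem mem_levi {x : GL Cfsg.Lie.chevD4.Idx K} (hx : x ∈ twistedD4 K q) {b : Kˣ}
    (hb : orderOf b = q ^ 2 + q + 1) (hxb : x * Tw.tor (Φ := Φ₄) (dA q b) = Tw.tor (Φ := Φ₄) (dA q b) * x)
    (hxγ : x * theta hq hK γ = theta hq hK γ * x) : x ∈ (theta hq hK).range := by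
  set T := Tw.tor (Φ := Φ₄) (dA q b) with hT
  have hq2 : 2 ≤ q := hq.two_le
  have hchi : ∀ r, (Φ₄).toSys.chi ((Φ₄).coHom K (dA q b)) r = b ^ ((cls r).1 + (q : ℤ) * (cls r).2) := by
    intro r
    have hbS : b ^ ((q : ℤ) ^ 2 + q + 1) = 1 := by
      rw [show (q : ℤ) ^ 2 + q + 1 = ((q ^ 2 + q + 1 : ℕ) : ℤ) by push_cast; ring, zpow_natCast, ← hb,
        pow_orderOf_eq_one]
    rw [chi_dA, show Cfsg.Lie.chevD4.cartan 0 r.val + (q : ℤ) * Cfsg.Lie.chevD4.cartan 2 r.val +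
      (q : ℤ) ^ 2 * Cfsg.Lie.chevD4.cartan 3 r.val = ((cls r).1 + (q : ℤ) * (cls r).2) +
        ((q : ℤ) ^ 2 + q + 1) * Cfsg.Lie.chevD4.cartan 3 r.val by simp only [cls]; ring,
      _root_.zpow_add, _root_.zpow_mul, hbS, _root_.one_zpow, mul_one]
  have hsep : ∀ r s, (Φ₄).toSys.chi ((Φ₄).coHom K (dA q b)) r = (Φ₄).toSys.chi ((Φ₄).coHom K (dA q b)) s →
      cls r = cls s := by
    intro r s h
    rw [hchi, hchi, ← div_eq_one, div_eq_mul_inv, ← _root_.zpow_neg, ← _root_.zpow_add, ← sub_eq_add_neg, ← orderOf_dvd_iff_zpow_eq_one, hb] at h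
    have key : ∀ e ∈ clsList, ∀ e' ∈ clsList,
        ((q ^ 2 + q + 1 : ℕ) : ℤ) ∣ e.1 + (q : ℤ) * e.2 - (e'.1 + (q : ℤ) * e'.2) → e = e' := by
      intro e he e' he' hd
      have hsmall : ∀ {z : ℤ}, |z| ≤ 4 * q + 4 → ((q ^ 2 + q + 1 : ℕ) : ℤ) ∣ z → Even z → z = 0 := by
        intro z hz hdz hev
        obtain ⟨m, rfl⟩ := hev
        have hcop : IsCoprime ((q ^ 2 + q + 1 : ℕ) : ℤ) 2 := by
          rw [Int.isCoprime_iff_nat_coprime]
          simp only [Int.natAbs_natCast, Int.reduceAbs]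
          rw [Nat.coprime_two_right, show q ^ 2 + q + 1 = q * (q + 1) + 1 by ring]
          exact (Nat.even_mul_succ_self q).add_one
        rw [← two_mul] at hdz hz ⊢
        have hm := hcop.dvd_of_dvd_mul_left hdz
        have hm0 : m = 0 := by
          refine Int.eq_zero_of_abs_lt_dvd hm ?_
          rw [abs_mul, abs_of_pos (two_pos : (0 : ℤ) < 2)] at hz
          have : ((q : ℤ)) * 2 ≤ (q : ℤ) ^ 2 := by rw [sq]; exact mul_le_mul_of_nonneg_left (by exact_mod_cast hq2) (by positivity)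
          push_cast
          linarith
        rw [hm0, mul_zero]
      simp only [clsList, List.mem_cons, List.not_mem_nil, or_false] at he he'
      have h0 := hsmall (z := e.1 + (q : ℤ) * e.2 - (e'.1 + (q : ℤ) * e'.2)) (by
        rcases he with rfl | rfl | rfl | rfl | rfl | rfl | rfl <;>
          rcases he' with rfl | rfl | rfl | rfl | rfl | rfl | rfl <;> rw [abs_le] <;> constructor <;>
          norm_num <;> omega) hd (by
        rcases he with rfl | rfl | rfl | rfl | rfl | rfl | rfl <;>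
          rcases he' with rfl | rfl | rfl | rfl | rfl | rfl | rfl <;> norm_num [parity_simps])
      rcases he with rfl | rfl | rfl | rfl | rfl | rfl | rfl <;>
        rcases he' with rfl | rfl | rfl | rfl | rfl | rfl | rfl <;> first | rfl | (exfalso; norm_num at h0 <;> omega)
    exact key _ (cls_mem r) _ (cls_mem s) h
  have hTfix : T ∈ (tw hq hK).fix := by
    rw [← T3D4.eq_fix hq hK]
    exact tor_mem hq hK ((stable_iff hq hK _).mpr ⟨one_pow q, rfl, rfl⟩)
  have hgen := gen hq hK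
  have hTH : T ∈ Cfsg.Lie.chevD4.diagonalSubgroup K := Tw.tor_mem_H _
  have hxf : x ∈ (tw hq hK).fix := hgen.le_fix hx
  obtain ⟨π, hπ, hnf⟩ := hgen.bruhat hxf
  have hW := ((S₄).mem_W1.mp hπ).1
  obtain ⟨n, hn, hnN, hnm⟩ := hgen.exists_nW1 hπ
  obtain ⟨b', ⟨hb', hb'f⟩, u, ⟨hu, huf⟩, hxe⟩ := hnf n hn hnN hnm
  obtain ⟨v, ⟨hv, hvf⟩, h, ⟨hh, hhf⟩, hbe⟩ := (tw hq hK).B_mem hb' hb'f
  set Z := n * T * n⁻¹ with hZ
  have hZH : Z ∈ Cfsg.Lie.chevD4.diagonalSubgroup K :=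
    (Subgroup.mem_normalizer_iff.mp ((Φ₄).N_le_normalizer_H hnN) T).mp hTH
  have hTu : T * u * T⁻¹ ∈ (Φ₄).US K ((Φ₄).Inv π) :=
    (Φ₄).map_US_le ((Φ₄).mono_torus _) (T := (Φ₄).Inv π) (fun r hr => hr) u hu
  have heq : T * b' * Z⁻¹ * n * (T * u * T⁻¹) = b' * n * u := by
    have h1 : T * x * T⁻¹ = x := by rw [← hxb, mul_inv_cancel_right]
    rw [hxe] at h1
    conv_rhs => rw [← h1]
    rw [hZ]; group
  obtain ⟨hb2, hu2⟩ := (Φ₄).nf_unique hnm (mul_mem (mul_mem (Subgroup.mem_sup_right hTH) hb')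
    (Subgroup.mem_sup_right (inv_mem hZH))) hb' hTu hu heq
  have hTh : T * h * T⁻¹ = h := by
    rw [(Φ₄).diagonalSubgroup_eq] at hh
    obtain ⟨d, rfl⟩ := hh
    show T * Tw.tor (Φ := Φ₄) d * T⁻¹ = _
    rw [hT, ← map_mul, ← map_inv, ← map_mul, mul_comm (dA q b), mul_inv_cancel_right]
    rfl
  have hTv : T * v * T⁻¹ ∈ Cfsg.Lie.chevD4.posUnipotent K :=
    (Subgroup.mem_normalizer_iff.mp ((Φ₄).H_le_normalizer_U hTH) v).mp hv
  have h1 : (T * v * T⁻¹)⁻¹ * v = T * Z⁻¹ := by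
    have h2 : T * v * T⁻¹ * (T * h * Z⁻¹) = v * h := by
      conv_rhs => rw [← hbe, ← hb2, hbe]
      group
    have hcomm : T * h = h * T := mul_inv_eq_iff_eq_mul.mp hTh
    have h3 : v = T * v * T⁻¹ * (h * (T * Z⁻¹) * h⁻¹) := by
      calc v = v * h * h⁻¹ := (mul_inv_cancel_right v h).symm
        _ = T * v * T⁻¹ * (T * h * Z⁻¹) * h⁻¹ := by rw [h2]
        _ = _ := by rw [hcomm]; group
    have hTZ : h * (T * Z⁻¹) * h⁻¹ = T * Z⁻¹ := by
      have hab : ∀ y ∈ Cfsg.Lie.chevD4.diagonalSubgroup K, h * y * h⁻¹ = y := by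
        intro y hy
        rw [(Φ₄).diagonalSubgroup_eq] at hy hh
        obtain ⟨d, rfl⟩ := hy
        obtain ⟨d', rfl⟩ := hh
        rw [← map_inv, ← map_mul, ← map_mul, mul_comm d', mul_inv_cancel_right]
      exact hab _ (mul_mem hTH (inv_mem hZH))
    rw [hTZ] at h3
    rw [inv_mul_eq_iff_eq_mul]
    exact h3
  have hone := (Φ₄).eq_one_of_mem_U_of_mem_N (mul_mem (inv_mem hTv) hv)
    (h1 ▸ H_le_N (mul_mem hTH (inv_mem hZH)))
  have hvT : T * v * T⁻¹ = v := inv_mul_eq_one.mp hone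
  have hnT : n * T * n⁻¹ = T := by
    rw [hone] at h1
    exact (mul_inv_eq_one.mp h1.symm).symm
  -- the Weyl element keeps the classes
  have hπcls : ∀ r, cls (π r) = cls r := by
    intro r
    refine hsep _ _ (Units.ext ?_)
    obtain ⟨a, ha, hax, -⟩ := hnm.1 r
    have e1 := hax ((((Φ₄).toSys.chi ((Φ₄).coHom K (dA q b)) r : Kˣ) : K) * 1)
    have e2 : n * (T * (Φ₄).toAlg.xg r 1 * T⁻¹) * n⁻¹ = T * (n * (Φ₄).toAlg.xg r 1 * n⁻¹) * T⁻¹ := by
      have : n * T = T * n := mul_inv_eq_iff_eq_mul.mp hnT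
      calc n * (T * (Φ₄).toAlg.xg r 1 * T⁻¹) * n⁻¹ = (n * T) * (Φ₄).toAlg.xg r 1 * (n * T)⁻¹ := by group
        _ = _ := by rw [this]; group
    rw [tor_xg, mul_inv_cancel_right, e1, hax, tor_xg, mul_inv_cancel_right] at e2
    have := (Φ₄).toAlg.xg_injective _ e2
    exact (mul_left_cancel₀ ha (by linear_combination this)).symm
  have hcoord : ∀ y : GL Cfsg.Lie.chevD4.Idx K, y ∈ Cfsg.Lie.chevD4.posUnipotent K → T * y * T⁻¹ = y →
      ∃ a₁ a₂ a₃ : K, y = tri a₁ a₂ a₃ := by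
    classical
    intro y hy hyT
    rw [(Φ₄).posUnipotent_eq_US, (Φ₄).mem_US_iff (S := (Φ₄).toTables.Pos) (fun r hr => hr) (Φ₄).closed_pos] at hy
    obtain ⟨t, rfl⟩ := hy
    rw [hT, torConj_prodL] at hyT
    have hz : ∀ r, 12 ≤ r.val → r ≠ rt 14 → r ≠ rt 22 → r ≠ rt 23 → t r = 0 := by
      intro r hr h1 h2 h3
      have hp : (Φ₄).toTables.Pos r := show 24 ≤ 2 * r.val by omega
      have := (Φ₄).prodL_injective (pairwise_rootList _) (fun r hr => mem_rootList.mp hr) hyT r (mem_rootList.mpr hp)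
      by_contra h0
      have hc1 : (Φ₄).toSys.chi ((Φ₄).coHom K (dA q b)) r = (Φ₄).toSys.chi ((Φ₄).coHom K (dA q b)) (rt 14) := by
        refine Units.ext ?_
        rw [chi_dA14, show nrm q b = 1 from by rw [nrm, ← hb, pow_orderOf_eq_one], _root_.inv_one, Units.val_one]
        exact mul_right_cancel₀ h0 (by rw [this, one_mul])
      have hc := hsep _ _ hc1
      rw [show cls (rt 14) = (0, 0) by decide +kernel] at hc
      rcases cls_zero r hc hr with h | h | h <;> contradiction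
    refine ⟨t (rt 14), t (rt 22), t (rt 23), ?_⟩
    rw [show rootList (Φ₄).toTables.Pos = [rt 12, rt 13, rt 14, rt 15, rt 16, rt 17, rt 18, rt 19, rt 20, rt 21,
      rt 22, rt 23] by rfl]
    simp only [prodL, List.map_cons, List.map_nil, List.prod_cons, List.prod_nil, mul_one,
      hz (rt 12) (by decide) (by decide) (by decide) (by decide), hz (rt 13) (by decide) (by decide) (by decide) (by decide),
      hz (rt 15) (by decide) (by decide) (by decide) (by decide), hz (rt 16) (by decide) (by decide) (by decide) (by decide),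
      hz (rt 17) (by decide) (by decide) (by decide) (by decide), hz (rt 18) (by decide) (by decide) (by decide) (by decide),
      hz (rt 19) (by decide) (by decide) (by decide) (by decide), hz (rt 20) (by decide) (by decide) (by decide) (by decide),
      hz (rt 21) (by decide) (by decide) (by decide) (by decide), Alg.xg_zero, one_mul, tri, mul_assoc]
  obtain ⟨va, vb, vc, hvtri⟩ := hcoord v hv hvT
  obtain ⟨ua, ub, uc, hutri⟩ := hcoord u (by
    rw [(Φ₄).posUnipotent_eq_US]; exact (Φ₄).US_mono (fun r hr => hr.1) hu) hu2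
  have hx4 : x = v * h * n * u := by rw [hxe, hbe]
  have hxvec : ∀ s, (u : Matrix Cfsg.Lie.chevD4.Idx Cfsg.Lie.chevD4.Idx K) *ᵥ e s = e s →
      ∃ κ : K, κ ≠ 0 ∧ (x : Matrix Cfsg.Lie.chevD4.Idx Cfsg.Lie.chevD4.Idx K) *ᵥ e s =
        κ • ((v : Matrix Cfsg.Lie.chevD4.Idx Cfsg.Lie.chevD4.Idx K) *ᵥ e (π s)) := by
    intro s hs
    obtain ⟨a, ha, -, han⟩ := hnm.1 s
    rw [(Φ₄).diagonalSubgroup_eq] at hh
    obtain ⟨d, hd⟩ := hh
    have hd' : Tw.tor (Φ := Φ₄) d = h := hd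
    refine ⟨a * (((Φ₄).toSys.chi ((Φ₄).coHom K d) (π s) : Kˣ) : K), mul_ne_zero ha (Units.ne_zero _), ?_⟩
    rw [hx4, Units.val_mul, ← Matrix.mulVec_mulVec, hs, Units.val_mul, ← Matrix.mulVec_mulVec, e, han,
      Matrix.mulVec_smul, Units.val_mul, ← Matrix.mulVec_mulVec, ← hd']
    show a • ((v : Matrix Cfsg.Lie.chevD4.Idx Cfsg.Lie.chevD4.Idx K) *ᵥ ((Tw.tor (Φ := Φ₄) d : Matrix Cfsg.Lie.chevD4.Idx Cfsg.Lie.chevD4.Idx K) *ᵥ e (π s))) = _
    rw [tor_vec, Matrix.mulVec_smul, smul_smul]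
  have hcommv : ∀ (s : Fin Cfsg.Lie.chevD4.nroots) (c : K),
      (theta hq hK γ : Matrix Cfsg.Lie.chevD4.Idx Cfsg.Lie.chevD4.Idx K) *ᵥ e s = c • e s →
      (theta hq hK γ : Matrix Cfsg.Lie.chevD4.Idx Cfsg.Lie.chevD4.Idx K) *ᵥ ((x : Matrix Cfsg.Lie.chevD4.Idx Cfsg.Lie.chevD4.Idx K) *ᵥ e s) = c • ((x : Matrix Cfsg.Lie.chevD4.Idx Cfsg.Lie.chevD4.Idx K) *ᵥ e s) := by
    intro s c hs
    rw [Matrix.mulVec_mulVec, ← Units.val_mul, ← hxγ, Units.val_mul, ← Matrix.mulVec_mulVec, hs, Matrix.mulVec_smul]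
  -- the image of the bottom vector
  have h17 : π (rt 17) = rt 17 := by
    obtain ⟨κ, hκ, hxs⟩ := hxvec (rt 17) (by rw [hutri]; exact tri17 _ _ _)
    have hcm := hcommv _ _ (theta_17 hq hK γ)
    rw [hxs, Matrix.mulVec_smul, smul_comm] at hcm
    have hcm' := smul_right_injective _ hκ hcm
    rcases cls_17 (π (rt 17)) (hπcls _) with h4 | h5 | h
    · exfalso
      obtain ⟨β, δ, hv4⟩ := tri4 va vb vc
      rw [h4, hvtri, hv4, show β • e (rt 5) + e (rt 4) = pl (rt 5) (rt 4) ![β, 1] by simp [pl]] at hcm'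
      have := congrFun (pl_neg_zero hq hK hγ hcm') 1
      simp at this
    · exfalso
      obtain ⟨δ, hv5⟩ := tri5 va vb vc
      rw [h5, hvtri, hv5, show e (rt 5) = pl (rt 5) (rt 4) ![(1 : K), 0] by simp [pl]] at hcm'
      have := congrFun (pl_neg_zero hq hK hγ hcm') 0
      simp at this
    · exact h
  have h6 : π (rt 6) = rt 6 := by
    rw [show rt 6 = (rt 17).rev from rfl, (Φ₄).W_rev hW, h17]
  have hπc : π = 1 ∨ π = (S₄).w (ox 0) := by
    have hw : (S₄).w (ox 0) = (Φ₄).reflPerm (ix 1) := orb0.hw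
    have r19 : (Φ₄).refl (ix 1) (rt 19) = rt 18 := Fin.ext (by rw [← (Φ₄).reflectRoot_eq]; decide +kernel)
    have r17 : (Φ₄).refl (ix 1) (rt 17) = rt 17 := Fin.ext (by rw [← (Φ₄).reflectRoot_eq]; decide +kernel)
    rcases cls_18 (π (rt 18)) (hπcls _) with h | h | h
    · exact absurd (π.injective (h.trans h6.symm)) (by decide)
    · exact Or.inl (eq_one_of_fix hπ h h17)
    · refine Or.inr ?_
      have hm := eq_one_of_fix (π := (S₄).w (ox 0) * π) (mul_mem ((S₄).w_mem_W1 _) hπ)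
        (by rw [Equiv.Perm.mul_apply, h, hw, (Φ₄).reflPerm_apply, r19])
        (by rw [Equiv.Perm.mul_apply, h17, hw, (Φ₄).reflPerm_apply, r17])
      rw [← (S₄).w_inv]
      exact eq_inv_of_mul_eq_one_right hm
  -- the unipotent part
  have hv14 : vb = 0 ∧ vc = 0 := by
    obtain ⟨κ, hκ, hxs⟩ := hxvec (rt 6) (by
      rw [hutri]
      rcases hπc with rfl | rfl
      · have : u = 1 := by
          have hbot : (Φ₄).US K ((Φ₄).Inv 1) = ⊥ := by
            rw [US, eq_bot_iff, Subgroup.closure_le]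
            rintro _ ⟨r, t, hr, -⟩
            exact absurd hr.1 hr.2
          rw [hbot] at hu
          exact Subgroup.mem_bot.mp hu
        rw [← hutri, this, Units.val_one, Matrix.one_mulVec]
      · have hu' : u ∈ (Φ₄).US K ((S₄).PJ (ox 0)) :=
          (Φ₄).US_mono (fun r hr => ((S₄).inv_w _ r).mp hr) hu
        obtain ⟨c, -, hc⟩ := (Tw.One.fix_iff (T := tw hq hK) orb0).mp ⟨hu', huf⟩
        rw [← hutri, hc, p1_eq]
        exact fix_vec (by decide) (by decide +kernel) c)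
    obtain ⟨c, hc6⟩ := theta_6 hq hK γ
    have hcm := hcommv _ _ hc6
    rw [hxs, h6, Matrix.mulVec_smul, smul_comm] at hcm
    have hcm' := smul_right_injective _ hκ hcm
    rw [hvtri, tri6, add_comm, ← one_smul K (e (rt 6))] at hcm'
    have hw := pl_pos_zero hq hK hγ hc6 rfl hcm'
    have w0 := congrFun hw 0
    have w1 := congrFun hw 1
    simp at w0 w1
    subst w1
    simp at w0
    exact ⟨rfl, w0⟩
  obtain ⟨rfl, rfl⟩ := hv14
  have hvx : v = (Φ₄).toAlg.xg (rt 14) va := by rw [hvtri, tri, Alg.xg_zero, Alg.xg_zero, mul_one, mul_one]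
  have hvR : v ∈ (theta hq hK).range := by
    have hv' : v ∈ (Φ₄).US K ((S₄).PJ (ox 0)) := by
      rw [hvx, ← p1_eq]; exact (Φ₄).xg_mem_US ((S₄).p_mem_PJ orb0.mem) _
    obtain ⟨c, hc, hc'⟩ := (Tw.One.fix_iff (T := tw hq hK) orb0).mp ⟨hv', hvf⟩
    rw [hc', p1_eq]
    rw [k_p] at hc
    exact xg14_range hq hK hc
  have hhR : h ∈ (theta hq hK).range := by
    rw [(Φ₄).diagonalSubgroup_eq] at hh
    obtain ⟨d, hd⟩ := hh
    have hd' : Tw.tor (Φ := Φ₄) d = h := hd
    obtain ⟨d', hs, he⟩ := hgen.lift d (by rw [← Tw.app_tor, hd']; exact hhf.2)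
    rw [← hd', ← he]
    exact tor_range hq hK hs
  have hnu : n * u ∈ (theta hq hK).range := by
    rcases hπc with rfl | rfl
    · obtain ⟨d, hd⟩ : n ∈ Cfsg.Lie.chevD4.diagonalSubgroup K ∧ u = 1 := ⟨((Φ₄).mem_H_iff_mono_one hnN).mpr hnm, by
        have hbot : (Φ₄).US K ((Φ₄).Inv 1) = ⊥ := by
          rw [US, eq_bot_iff, Subgroup.closure_le]
          rintro _ ⟨r, t, hr, -⟩
          exact absurd hr.1 hr.2
        rw [hbot] at hu
        exact Subgroup.mem_bot.mp hu⟩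
      rw [hd, mul_one]
      rw [(Φ₄).diagonalSubgroup_eq] at d
      obtain ⟨d0, hd0⟩ := d
      have hd' : Tw.tor (Φ := Φ₄) d0 = n := hd0
      obtain ⟨d', hs, he⟩ := hgen.lift d0 (by rw [← Tw.app_tor, hd']; exact (hgen.le_fix hn).2)
      rw [← hd', ← he]
      exact tor_range hq hK hs
    · refine mul_mem ?_ ?_
      · have hw1 : phi K (SpecialLinearGroup.map (inc hq hK) (RankOne.w : SpecialLinearGroup (Fin 2) (R0 hq hK))) =
            (Φ₄).nw (rt 14) 1 := by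
          rw [show SpecialLinearGroup.map (inc hq hK) (RankOne.w : SpecialLinearGroup (Fin 2) (R0 hq hK)) =
            RankOne.u 1 * RankOne.l (-1) * RankOne.u 1 from Subtype.ext (by
              show (inc hq hK).mapMatrix _ = _
              simp only [RankOne.val_mul]
              ext i j; fin_cases i <;> fin_cases j <;>
                simp [RankOne.u, RankOne.l, RankOne.w, inc, Matrix.mul_apply, Fin.sum_univ_two]),
            map_mul, map_mul, phi_u, phi_l]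
          simp [nw]
          rfl
        have hmR := phi_range hq hK (RankOne.w : SpecialLinearGroup (Fin 2) (R0 hq hK))
        rw [hw1] at hmR
        set m := (Φ₄).nw (rt 14) (1 : Kˣ) with hm
        have hmN : m ∈ Cfsg.Lie.chevD4.monomialSubgroup K := (Φ₄).nw_mem_N _ _
        have hmm : (Φ₄).Mono m ((S₄).w (ox 0)) := by
          rw [orb0.hw, hm, ← p1_eq]; exact (Φ₄).nw_one_mono _
        have hmf : m ∈ (tw hq hK).fix := by
          obtain ⟨y, hy⟩ := hmR
          rw [← hy, ← T3D4.eq_fix hq hK]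
          exact theta_mem hq hK y
        have hH := Tw.mul_inv_mem_H hnN hmN hnm hmm
        rw [(Φ₄).diagonalSubgroup_eq] at hH
        obtain ⟨d0, hd0⟩ := hH
        have hd' : Tw.tor (Φ := Φ₄) d0 = n * m⁻¹ := hd0
        obtain ⟨d', hs, he⟩ := hgen.lift d0 (by
          rw [← Tw.app_tor, hd']; exact (mul_mem (hgen.le_fix hn) (inv_mem hmf)).2)
        rw [show n = n * m⁻¹ * m by group, ← hd', ← he]
        exact mul_mem (tor_range hq hK hs) hmR
      · have hu' : u ∈ (Φ₄).US K ((S₄).PJ (ox 0)) :=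
          (Φ₄).US_mono (fun r hr => ((S₄).inv_w _ r).mp hr) hu
        obtain ⟨c, hc, hc'⟩ := (Tw.One.fix_iff (T := tw hq hK) orb0).mp ⟨hu', huf⟩
        rw [hc', p1_eq]
        rw [k_p] at hc
        exact xg14_range hq hK hc
  rw [hx4, mul_assoc]
  exact mul_mem (mul_mem hvR hhR) hnu

include hq hK in
/-- The self-centralising cyclic torus of order `(q³ - 1)(q + 1)`. -/
theorem exists_torus : ∃ H : Subgroup ↥(twistedD4 K q), IsCyclic ↥H ∧ Nat.card ↥H = (q ^ 3 - 1) * (q + 1) ∧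
    Subgroup.centralizer (H : Set ↥(twistedD4 K q)) = H := by
  have hR := card_R0 hq hK
  obtain ⟨γ, hγM, hγo, hγe, hγc⟩ := exists_pair (inc hq hK) (by rw [hR]; exact hK)
  rw [hR] at hγo
  let θ : Pairs (inc hq hK) →* twistedD4 K q := (theta hq hK).codRestrict _ (theta_mem hq hK)
  have hθ : Function.Injective θ := fun x y h => theta_injective hq hK (congrArg Subtype.val h)
  set g := θ ⟨γ, hγM⟩ with hg
  have hgo : orderOf g = (q ^ 3 - 1) * (q + 1) := by rw [hg, orderOf_injective θ hθ, Subgroup.orderOf_mk, hγo]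
  refine ⟨Subgroup.zpowers g, inferInstance, by rw [Nat.card_zpowers, hgo], ?_⟩
  refine le_antisymm (fun x hx => ?_) ?_
  swap
  · exact Subgroup.le_centralizer (Subgroup.zpowers g)
  rw [Subgroup.mem_centralizer_iff] at hx
  obtain ⟨w, hw⟩ := IsCyclic.exists_ofOrder_eq_natCard (α := Kˣ)
  rw [Nat.card_units, Nat.card_eq_fintype_card, hK] at hw
  set b := w ^ (q - 1) with hb
  have hq1 : 1 ≤ q := hq.one_lt.le
  have hbo : orderOf b = q ^ 2 + q + 1 := by
    rw [hb, orderOf_pow' _ (by have := hq.two_le; omega), hw, cube_sub_one q hq1, Nat.gcd_mul_right_left,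
      Nat.mul_div_cancel_left _ (by have := hq.two_le; omega)]
  have hbM : ((1, b) : GL (Fin 2) (R0 hq hK) × Kˣ) ∈ Pairs (inc hq hK) := by
    rw [mem_pairs, hR]
    simp [← Units.val_pow_eq_pow_val, ← hbo, pow_orderOf_eq_one]
  obtain ⟨i, hi⟩ := hγc (1, b) hbM (by rw [one_mul, mul_one])
  have hθb : theta hq hK ⟨(1, b), hbM⟩ = Tw.tor (Φ := Φ₄) (dA q b) := by
    show phi K (slPart hq hK ⟨(1, b), hbM⟩) * _ = _
    rw [show slPart hq hK ⟨(1, b), hbM⟩ = 1 from Subtype.ext (by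
      have h1 : nrm q b = 1 := by rw [nrm, ← hbo, pow_orderOf_eq_one]
      ext i j; fin_cases i <;> fin_cases j <;> simp [slPart, h1]), map_one, one_mul]
  have hcomm : ∀ j : ℤ, (x : GL Cfsg.Lie.chevD4.Idx K) * theta hq hK (⟨γ, hγM⟩ ^ j) =
      theta hq hK (⟨γ, hγM⟩ ^ j) * (x : GL Cfsg.Lie.chevD4.Idx K) := by
    intro j
    have h := hx (g ^ j) (Subgroup.zpow_mem_zpowers g j)
    rw [hg, ← map_zpow] at h
    exact (congrArg Subtype.val h).symm
  have hpow : (⟨γ, hγM⟩ : Pairs (inc hq hK)) ^ i = ⟨(1, b), hbM⟩ := Subtype.ext (by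
    rw [Subgroup.coe_zpow]; exact hi)
  obtain ⟨y, hy⟩ := mem_levi hq hK (γ := ⟨γ, hγM⟩) hγe x.2 hbo (by rw [← hθb, ← hpow]; exact hcomm i)
    (by simpa using hcomm 1)
  have hyc : y * ⟨γ, hγM⟩ = ⟨γ, hγM⟩ * y := by
    refine theta_injective hq hK ?_
    rw [map_mul, map_mul, hy]
    simpa using hcomm 1
  obtain ⟨j, hj⟩ := hγc y.1 y.2 (congrArg (fun z : Pairs (inc hq hK) => z.1.1) hyc)
  refine ⟨j, ?_⟩
  show g ^ j = x
  rw [hg, ← map_zpow]
  refine Subtype.ext ?_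
  show theta hq hK (⟨γ, hγM⟩ ^ j) = _
  rw [← hy]
  congr 1
  exact Subtype.ext (by rw [Subgroup.coe_zpow]; exact hj)

end

end CfsgLib.D4Torus
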